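import Mathlib.Data.Nat.Prime.Basic
import Mathlib.RingTheory.Int.Basic
import Mathlib.Tactic.Linarith

/-!
# Frobenius weights of a Singer cycle: the arithmetic

Which sums of two or three powers of `p` lie, modulo `p ^ a - 1`, in a proper subfield.
-/

namespace Cfsg.Agent.OneNonlinear

theorem coprime_pow_pred {p a : ℕ} (hp : 2 ≤ p) (ha : 0 < a) (i : ℕ) :
    (p ^ a - 1).Coprime (p ^ i) := by
  refine Nat.Coprime.pow_right i ?_
  obtain ⟨b, rfl⟩ : ∃ b, a = b + 1 := ⟨a - 1, by omega⟩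
  have h1 : 1 ≤ p ^ (b + 1) := Nat.one_le_pow _ _ (by omega)
  refine Nat.coprime_of_dvd' fun k _ h2 h3 => ?_
  have h4 : k ∣ p ^ (b + 1) := h3.trans (dvd_pow_self p (by omega))
  have := Nat.dvd_sub h4 h2
  rwa [show p ^ (b + 1) - (p ^ (b + 1) - 1) = 1 by omega] at this

theorem weight_two_aux {p a d g : ℕ} (hp : 2 ≤ p) (hg : 0 < g) (hga : 2 * g ≤ a) (hd : 2 * d ≤ a)
    (h : p ^ a - 1 ∣ (1 + p ^ d) * (p ^ g - 1)) : 2 * g = a ∧ 2 * d = a := by
  by_cases hdg : d + g = a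
  · omega
  exfalso
  obtain ⟨b, rfl⟩ : ∃ b, a = b + 1 := ⟨a - 1, by omega⟩
  have hg1 : 2 ≤ p ^ g := hp.trans (Nat.le_self_pow (by omega) p)
  have hpos : 0 < (1 + p ^ d) * (p ^ g - 1) :=
    Nat.mul_pos (by omega) (Nat.sub_pos_of_lt (by omega))
  have hle := Nat.le_of_dvd hpos h
  have h1 : p ^ g ≤ p ^ b := Nat.pow_le_pow_right (by omega) (by omega)
  have h2 : p ^ d * p ^ g ≤ p ^ b := by
    rw [← pow_add]; exact Nat.pow_le_pow_right (by omega) (by omega)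
  have h3 : 2 * p ^ b ≤ p ^ (b + 1) := by
    rw [pow_succ, mul_comm]; exact Nat.mul_le_mul_left _ hp
  have h4 : 1 ≤ p ^ d := Nat.one_le_pow _ _ (by omega)
  rw [Nat.mul_sub, mul_one, add_mul, one_mul] at hle
  omega

theorem weight_two {p a i j g : ℕ} (hp : 2 ≤ p) (hg : 0 < g) (hga : 2 * g ≤ a)
    (hi : i < a) (hj : j < a) (h : p ^ a - 1 ∣ (p ^ i + p ^ j) * (p ^ g - 1)) :
    2 * g = a ∧ (i + g = j ∨ j + g = i) := by
  wlog hij : i ≤ j generalizing i j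
  · have := this hj hi (by rwa [add_comm (p ^ i)] at h) (by omega)
    exact ⟨this.1, this.2.symm⟩
  obtain ⟨d, rfl⟩ := Nat.exists_eq_add_of_le hij
  rw [pow_add, show (p ^ i + p ^ i * p ^ d) * (p ^ g - 1) = p ^ i * ((1 + p ^ d) * (p ^ g - 1)) by
    ring] at h
  have h' := (coprime_pow_pred hp (by omega) i).dvd_of_dvd_mul_left h
  by_cases hd : 2 * d ≤ a
  · obtain ⟨e1, e2⟩ := weight_two_aux hp hg hga hd h'
    exact ⟨e1, Or.inl (by omega)⟩
  exfalso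
  obtain ⟨d', hd'⟩ : ∃ d', d' + d = a := ⟨a - d, by omega⟩
  have h1 : 1 ≤ p ^ a := Nat.one_le_pow _ _ (by omega)
  have e : p ^ d' * ((1 + p ^ d) * (p ^ g - 1)) =
      (p ^ a - 1) * (p ^ g - 1) + (1 + p ^ d') * (p ^ g - 1) := by
    rw [← add_mul, ← mul_assoc, mul_add, mul_one, ← pow_add, hd']
    congr 1
    omega
  have h2 : p ^ a - 1 ∣ (1 + p ^ d') * (p ^ g - 1) := by
    have := Dvd.dvd.mul_left h' (p ^ d')
    rw [e] at this
    exact (Nat.dvd_add_right (Dvd.intro _ rfl)).1 this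
  obtain ⟨-, e2⟩ := weight_two_aux hp hg hga (by omega) h2
  omega

theorem weight_three {p n l g : ℕ} (hp : 2 ≤ p) (hg : 0 < g) (hgn : g ≤ n)
    (h : p ^ (2 * n) - 1 ∣ p ^ l * ((2 + p ^ n) * (p ^ g - 1))) : False := by
  have h' := (coprime_pow_pred hp (by omega) l).dvd_of_dvd_mul_left h
  obtain ⟨b, rfl⟩ : ∃ b, n = b + 1 := ⟨n - 1, by omega⟩
  have hb : 1 ≤ p ^ b := Nat.one_le_pow _ _ (by omega)
  have hn2 : 2 * p ^ b ≤ p ^ (b + 1) := by
    rw [pow_succ, mul_comm]; exact Nat.mul_le_mul_left _ hp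
  have hsq : p ^ (2 * (b + 1)) = p ^ (b + 1) * p ^ (b + 1) := by rw [two_mul, pow_add]
  have hsq2 : 2 * p ^ (b + 1) ≤ p ^ (b + 1) * p ^ (b + 1) :=
    Nat.mul_le_mul_right _ (by omega)
  rcases Nat.lt_or_ge g (b + 1) with hlt | hge
  · have hg1 : 2 ≤ p ^ g := hp.trans (Nat.le_self_pow (by omega) p)
    have hpos : 0 < (2 + p ^ (b + 1)) * (p ^ g - 1) :=
      Nat.mul_pos (by omega) (Nat.sub_pos_of_lt (by omega))
    have hle := Nat.le_of_dvd hpos h'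
    have h1 : p ^ g ≤ p ^ b := Nat.pow_le_pow_right (by omega) (by omega)
    have h2 : 2 * (p ^ (b + 1) * p ^ g) ≤ p ^ (b + 1) * p ^ (b + 1) :=
      calc 2 * (p ^ (b + 1) * p ^ g) ≤ 2 * (p ^ (b + 1) * p ^ b) :=
            Nat.mul_le_mul_left _ (Nat.mul_le_mul_left _ h1)
        _ = p ^ (b + 1) * (2 * p ^ b) := by ring
        _ ≤ p ^ (b + 1) * p ^ (b + 1) := Nat.mul_le_mul_left _ hn2
    rw [hsq, Nat.mul_sub, mul_one, add_mul] at hle
    omega
  · obtain rfl : g = b + 1 := by omega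
    have e : (2 + p ^ (b + 1)) * (p ^ (b + 1) - 1) =
        (p ^ (2 * (b + 1)) - 1) + (p ^ (b + 1) - 1) := by
      rw [Nat.mul_sub, mul_one, add_mul, hsq]
      omega
    rw [e] at h'
    have hle := Nat.le_of_dvd (by omega) ((Nat.dvd_add_right dvd_rfl).1 h')
    omega

end Cfsg.Agent.OneNonlinear
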