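import Cfsg.Agent.Lib.Transfer.Tate
import Cfsg.Agent.Lib.PGroup.Frattini
import Cfsg.Agent.Lib.PrimeParts.Basic

/-!
# Anticentral cosets in Sylow subgroups

* `exists_complement`: if `K ⊓ P ≤ P'` for a Sylow subgroup `P` then `K` has a characteristic normal
  `p`-complement, normal in the whole group;
* `exists_conj_eq_mul`: the class-size argument `g^S = g (S ∩ K)`;
* `exists_commuting_fixed`: orbit counting.
-/

namespace Cfsg.Agent.OneNonlinear

open Subgroup
open scoped commutatorElement

set_option linter.style.haveILetI false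

variable {G : Type*} [Group G] [Finite G]

/-- The normal `p`-complement of a normal subgroup, inside the whole group. -/
theorem exists_complement {p : ℕ} [hp : Fact p.Prime] (K : Subgroup G) [K.Normal]
    (hK : HasNormalPComplement p K) :
    ∃ M : Subgroup G, M.Normal ∧ M ≤ K ∧ (Nat.card M).Coprime p ∧
      ∃ k, Nat.card K = Nat.card M * p ^ k := by
  obtain ⟨Q, N, hN, hc⟩ := hK
  obtain ⟨k, hk⟩ := Q.2.exists_card_eq
  have hcard := hc.card_mul_card
  rw [hk] at hcard
  have hcop : (Nat.card N).Coprime p := by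
    refine Nat.Coprime.symm (hp.out.coprime_iff_not_dvd.2 fun hdvd => ?_)
    have h2 : p ^ (k + 1) ∣ Nat.card K := by
      rw [← hcard, pow_succ, mul_comm]
      exact Nat.mul_dvd_mul hdvd dvd_rfl
    have h3 := (hp.out.pow_dvd_iff_le_factorization Nat.card_pos.ne').1 h2
    have h4 := Q.card_eq_multiplicity
    rw [hk] at h4
    have := Nat.pow_right_injective hp.out.two_le h4
    omega
  have hmem : ∀ x : K, x ∈ N ↔ (orderOf x).Coprime p := by
    intro x
    refine ⟨fun hx => ?_, fun hx => ?_⟩
    · have := orderOf_dvd_natCard (⟨x, hx⟩ : N)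
      rw [orderOf_mk] at this
      exact hcop.coprime_dvd_left this
    · rw [← QuotientGroup.eq_one_iff, ← orderOf_eq_one_iff]
      refine Nat.eq_one_of_dvd_coprimes (hx.pow_right k) (orderOf_map_dvd (QuotientGroup.mk' N) x) ?_
      have h1 : Nat.card (K ⧸ N) = p ^ k := by
        have := Subgroup.card_eq_card_quotient_mul_card_subgroup N
        rw [← hcard, mul_comm (Nat.card N)] at this
        exact (Nat.eq_of_mul_eq_mul_right Nat.card_pos this).symm
      rw [← h1]
      exact orderOf_dvd_natCard _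
  refine ⟨N.map K.subtype, ⟨?_⟩, map_subtype_le _, ?_, k, ?_⟩
  · rintro _ ⟨x, hx, rfl⟩ g
    refine ⟨⟨g * x * g⁻¹, (inferInstance : K.Normal).conj_mem x x.2 g⟩, ?_, rfl⟩
    rw [SetLike.mem_coe, hmem] at hx ⊢
    rw [← Subgroup.orderOf_coe]
    show (orderOf (MulAut.conj g (x : G))).Coprime p
    rwa [MulEquiv.orderOf_eq, Subgroup.orderOf_coe]
  · rwa [card_map_of_injective K.subtype_injective]
  · rw [card_map_of_injective K.subtype_injective, hcard]

/-- If the centraliser in `S` of `g` is at most the index of `T` in `S` and the conjugates of `g`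
stay in `g T`, they fill `g T`. -/
theorem exists_conj_eq_mul (S T : Subgroup G) (g : G)
    (hsub : ∀ s ∈ S, g⁻¹ * (s * g * s⁻¹) ∈ T)
    (hcard : Nat.card ↥(S ⊓ centralizer ({g} : Set G)) * Nat.card T ≤ Nat.card S) {t : G}
    (ht : t ∈ T) : ∃ s ∈ S, s * g * s⁻¹ = g * t := by
  classical
  let f : S → T := fun s => ⟨g⁻¹ * ((s : G) * g * (s : G)⁻¹), hsub s s.2⟩
  by_contra hne
  push Not at hne
  have hrange : Nat.card (Set.range f) < Nat.card T := by
    have h : Set.range f ⊂ Set.univ := ⟨Set.subset_univ _, fun h => by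
      obtain ⟨s, hs⟩ := h (Set.mem_univ (⟨t, ht⟩ : T))
      exact hne s s.2 (inv_mul_eq_iff_eq_mul.1 (congrArg Subtype.val hs))⟩
    rw [← Nat.card_univ (α := T)]
    exact Set.ncard_lt_ncard h
  let sec : Set.range f → S := fun u => Classical.choose u.2
  have hsec : ∀ u, f (sec u) = u := fun u => Classical.choose_spec u.2
  let F : S → Set.range f × ↥(S ⊓ centralizer ({g} : Set G)) := fun s =>
    (⟨f s, s, rfl⟩, ⟨((sec ⟨f s, s, rfl⟩ : S) : G)⁻¹ * s,
      mem_inf.2 ⟨mul_mem (inv_mem (sec _).2) s.2, by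
        have h := congrArg Subtype.val (hsec ⟨f s, s, rfl⟩)
        change g⁻¹ * _ = g⁻¹ * _ at h
        rw [mul_left_cancel_iff] at h
        rw [mem_centralizer_singleton_iff]
        set z : G := ((sec ⟨f s, s, rfl⟩ : S) : G)
        calc z⁻¹ * (s : G) * g = z⁻¹ * ((s : G) * g * (s : G)⁻¹) * s := by group
          _ = z⁻¹ * (z * g * z⁻¹) * s := by rw [h]
          _ = g * (z⁻¹ * s) := by group⟩⟩)
  have hF : Function.Injective F := fun a b h => by
    have h1 := congrArg Prod.fst h
    have h2 := congrArg Subtype.val (congrArg Prod.snd h)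
    simp only [F] at h1 h2
    rw [h1] at h2
    exact Subtype.ext (mul_left_cancel h2)
  have h := (Nat.card_le_card_of_injective F hF).trans_eq (Nat.card_prod _ _)
  have hpos := Nat.card_pos (α := ↥(S ⊓ centralizer ({g} : Set G)))
  have := Nat.mul_lt_mul_of_pos_right hrange hpos
  rw [mul_comm (Nat.card T)] at this
  omega

theorem commutatorElement_pow_left {P : Type*} [Group P] {a b : P}
    (hc : ∀ x, ⁅a, b⁆ * x = x * ⁅a, b⁆) (k : ℕ) : ⁅a ^ k, b⁆ = ⁅a, b⁆ ^ k := by
  induction k with
  | zero => simp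
  | succ k ih =>
    rw [pow_succ', commutatorElement_mul_left_eq_conj_mul, ih, pow_succ,
      (show Commute (⁅a, b⁆ ^ k) a from Commute.pow_left (hc a) k).symm.eq, mul_inv_cancel_right]

end Cfsg.Agent.OneNonlinear
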