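import Cfsg.Agent.Lib.OneNonlinear.Expansion
import Cfsg.Agent.Lib.OneNonlinear.Arith
import Cfsg.Agent.Lib.LieGraded.Fpf
import Mathlib.GroupTheory.PGroup
import Mathlib.GroupTheory.Commutator.Finite

/-!
# Camina groups with a Singer automorphism have class two

`gam_two_eq_bot`: a finite `p`-group `P` with `P / P'` elementary abelian, an automorphism
permuting the nonidentity elements of `P / P'` transitively, and an element outside `P'` whose
centraliser has order at most `|P : P'|` has `[P', P] = 1`.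
-/

namespace Cfsg.Agent.OneNonlinear

open Subgroup LieGraded
open scoped commutatorElement

set_option linter.style.haveILetI false
set_option linter.unusedSectionVars false

universe u

theorem dual_facts {W : Type*} [AddCommGroup W] [Finite W] {p : ℕ} [Fact p.Prime]
    (h : ∀ w : W, p • w = 0) : Nat.card (W →+ ZMod p) = Nat.card W ∧
      ∀ w : W, (∀ φ : W →+ ZMod p, φ w = 0) → w = 0 := by
  obtain ⟨iM⟩ : Nonempty (Module (ZMod p) W) := ⟨AddCommGroup.zmodModule h⟩
  let b := Module.Basis.ofVectorSpace (ZMod p) W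
  refine ⟨?_, fun w hw => b.forall_coord_eq_zero_iff.1 fun i => hw (b.coord i).toAddMonoidHom⟩
  let E : (W →+ ZMod p) ≃ (W →ₗ[ZMod p] ZMod p) :=
    { toFun := fun f => AddMonoidHom.toZModLinearMap p f
      invFun := fun g => g.toAddMonoidHom
      left_inv := fun f => rfl
      right_inv := fun g => rfl }
  let C : (Module.Basis.ofVectorSpaceIndex (ZMod p) W → ZMod p) ≃ₗ[ZMod p] (W →ₗ[ZMod p] ZMod p) :=
    b.constr (ZMod p)
  haveI : Fintype (Module.Basis.ofVectorSpaceIndex (ZMod p) W) := Fintype.ofFinite _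
  rw [Nat.card_congr E, ← Nat.card_congr C.toEquiv, Nat.card_congr b.equivFun.toEquiv]

section Field

variable {F : Type*} [Field F] [Finite F] {p a : ℕ} [Fact p.Prime] [CharP F p]

/-- A weight that occurs on a small module lies in a proper subfield. -/
theorem exists_weight_period (hcard : Nat.card F = p ^ a) {ω : F} (hω0 : ω ≠ 0)
    (hord : orderOf ω = Nat.card F - 1) {W : Type*} [AddCommGroup W] [Finite W]
    (hW : ∀ w : W, p • w = 0) (hsmall : Nat.card W < p ^ a) (T : W →+ W)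
    (Φ : (W →+ ZMod p) →+ F) (e : ℕ) (hΦ : ∀ φ, Φ (φ.comp T) = ω ^ e * Φ φ)
    (hne : ∃ φ, Φ φ ≠ 0) :
    ∃ g, 0 < g ∧ 2 * g ≤ a ∧ p ^ a - 1 ∣ e * (p ^ g - 1) := by
  have hfin : Finite (W →+ ZMod p) := Finite.of_injective _ DFunLike.coe_injective
  obtain ⟨φ₀, hφ₀⟩ := hne
  obtain ⟨g, hg, hga, hfix⟩ := exists_frobenius_fixed hcard (ω ^ e) Φ.range
    (fun h => hφ₀ (by
      have : Φ φ₀ ∈ Φ.range := ⟨φ₀, rfl⟩
      rwa [h, AddSubgroup.mem_bot] at this))
    (fun x hx => by
      obtain ⟨φ, rfl⟩ := hx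
      exact ⟨φ.comp T, hΦ φ⟩)
    (lt_of_le_of_lt
      ((Nat.card_le_card_of_surjective _ Φ.rangeRestrict_surjective).trans (dual_facts hW).1.le)
      hsmall)
  refine ⟨g, hg, hga, ?_⟩
  have h1 : ω ^ (e * (p ^ g - 1)) = 1 := by
    have hp1 : 1 ≤ p ^ g := Nat.one_le_pow _ _ (Fact.out : p.Prime).pos
    rw [← pow_mul, show e * p ^ g = e * (p ^ g - 1) + e by
      rw [Nat.mul_sub, mul_one, Nat.sub_add_cancel (Nat.le_mul_of_pos_right e hp1)], pow_add] at hfix
    exact (mul_eq_right₀ (pow_ne_zero _ hω0)).1 hfix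
  rw [← hcard, ← hord]
  exact orderOf_dvd_of_pow_eq_one h1

theorem pow_succ_pow_card (hcard : Nat.card F = p ^ a) {i k : ℕ} (x : F) (h : k = i + a) :
    x ^ p ^ k = x ^ p ^ i := by
  haveI := Fintype.ofFinite F
  rw [h, pow_add, mul_comm, pow_mul, ← hcard, Nat.card_eq_fintype_card, FiniteField.pow_card]

/-- The field-theoretic core: no room for a third layer. -/
theorem trilinear_eq_zero (hcard : Nat.card F = p ^ a) {ω : F} (hω0 : ω ≠ 0)
    (hord : orderOf ω = Nat.card F - 1)
    {W₁ W₂ : Type*} [AddCommGroup W₁] [Finite W₁] [AddCommGroup W₂] [Finite W₂]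
    (h₁ : ∀ w : W₁, p • w = 0) (h₂ : ∀ w : W₂, p • w = 0)
    (hs₁ : Nat.card W₁ < p ^ a) (hs₂ : Nat.card W₂ < p ^ a)
    (T₁ : W₁ →+ W₁) (T₂ : W₂ →+ W₂) (B : F →+ F →+ W₁) (D : W₁ →+ F →+ W₂)
    (hB : ∀ x y, T₁ (B x y) = B (ω * x) (ω * y))
    (hD : ∀ w z, T₂ (D w z) = D (T₁ w) (ω * z))
    (hJ : ∀ x y z, D (B x y) z + D (B y z) x + D (B z x) y = 0) :
    ∀ x y z, D (B x y) z = 0 := by
  classical
  have hp := (Fact.out : p.Prime)
  let ι : ZMod p →+ F := (ZMod.castHom (dvd_refl p) F).toAddMonoidHom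
  have hι : Function.Injective ι := (ZMod.castHom (dvd_refl p) F).injective
  -- first layer
  let f2 : (W₁ →+ ZMod p) → (F →+ F →+ F) := fun φ =>
    AddMonoidHom.mk' (fun x => (ι.comp φ).comp (B x)) fun x x' => AddMonoidHom.ext fun y => by simp
  choose c2 hc2 using fun φ => exists_expansion₂ hcard (f2 φ)
  have hadd2 : ∀ φ ψ i j, c2 (φ + ψ) i j = c2 φ i j + c2 ψ i j := fun φ ψ i j => by
    have := eq_zero_of_forall_sum₂ hcard (c := c2 (φ + ψ) - (c2 φ + c2 ψ)) fun x y => by
      simp only [Pi.sub_apply, Pi.add_apply, sub_mul, add_mul, Finset.sum_sub_distrib,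
        Finset.sum_add_distrib, ← hc2]
      simp [f2]
    exact congrFun (congrFun (sub_eq_zero.1 this) i) j
  have hT2 : ∀ φ i j, c2 (φ.comp T₁) i j = ω ^ (p ^ (i : ℕ) + p ^ (j : ℕ)) * c2 φ i j := fun φ => by
    have := eq_zero_of_forall_sum₂ hcard
      (c := c2 (φ.comp T₁) - fun (i j : Fin a) => ω ^ (p ^ (i : ℕ) + p ^ (j : ℕ)) * c2 φ i j) fun x y => by
      simp only [Pi.sub_apply, sub_mul, Finset.sum_sub_distrib, ← hc2]
      have e : f2 φ (ω * x) (ω * y) = f2 (φ.comp T₁) x y := by simp [f2, hB]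
      rw [← e, hc2, sub_eq_zero]
      refine Finset.sum_congr rfl fun i _ => Finset.sum_congr rfl fun j _ => ?_
      rw [mul_pow, mul_pow, pow_add]; ring
    exact fun i j => congrFun (congrFun (sub_eq_zero.1 this) i) j
  have hw2 : ∀ (i j : Fin a) φ, c2 φ i j ≠ 0 → ∃ n : ℕ, 0 < n ∧ 2 * n = a ∧
      p ^ a - 1 ∣ (p ^ (i : ℕ) + p ^ (j : ℕ)) * (p ^ n - 1) := by
    intro i j φ hne
    obtain ⟨g, hg, hga, hdvd⟩ := exists_weight_period hcard hω0 hord h₁ hs₁ T₁
      (AddMonoidHom.mk' (fun φ => c2 φ i j) fun φ ψ => hadd2 φ ψ i j)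
      (p ^ (i : ℕ) + p ^ (j : ℕ)) (fun φ => hT2 φ i j) ⟨φ, hne⟩
    exact ⟨g, hg, (weight_two hp.two_le hg hga i.2 j.2 hdvd).1, hdvd⟩
  by_cases hB0 : ∀ φ i j, c2 φ i j = 0
  · intro x y z
    have hBxy : B x y = 0 := (dual_facts h₁).2 _ fun φ => hι (by
      rw [map_zero]
      have := hc2 φ x y
      simpa [hB0, f2] using this)
    rw [hBxy, map_zero, AddMonoidHom.zero_apply]
  push Not at hB0
  obtain ⟨φ₁, i₁, j₁, hne₁⟩ := hB0
  obtain ⟨n, hn, hna, -⟩ := hw2 i₁ j₁ φ₁ hne₁
  set ω₀ := ω ^ (p ^ n - 1) with hω₀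
  have hinv : ∀ x y, B (ω₀ * x) (ω₀ * y) = B x y := by
    intro x y
    rw [← sub_eq_zero]
    refine (dual_facts h₁).2 _ fun φ => ?_
    rw [map_sub, sub_eq_zero]
    refine hι (?_ : f2 φ (ω₀ * x) (ω₀ * y) = f2 φ x y)
    rw [hc2, hc2]
    refine Finset.sum_congr rfl fun i _ => Finset.sum_congr rfl fun j _ => ?_
    by_cases h0 : c2 φ i j = 0
    · simp [h0]
    obtain ⟨m, -, hma, hdvd⟩ := hw2 i j φ h0
    obtain rfl : m = n := by omega
    have h1 : ω₀ ^ (p ^ (i : ℕ)) * ω₀ ^ (p ^ (j : ℕ)) = 1 := by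
      rw [← pow_add, hω₀, ← pow_mul, ← orderOf_dvd_iff_pow_eq_one, hord, hcard, mul_comm]
      exact hdvd
    rw [mul_pow, mul_pow]
    linear_combination (c2 φ i j * x ^ p ^ (i : ℕ) * y ^ p ^ (j : ℕ)) * h1
  -- second layer
  let f3 : (W₂ →+ ZMod p) → (F →+ F →+ F →+ F) := fun φ =>
    AddMonoidHom.mk' (fun x => AddMonoidHom.mk' (fun y => (ι.comp φ).comp (D (B x y)))
      fun y y' => AddMonoidHom.ext fun z => by simp)
      fun x x' => AddMonoidHom.ext fun y => AddMonoidHom.ext fun z => by simp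
  choose c3 hc3 using fun φ => exists_expansion₃ hcard (f3 φ)
  have hadd3 : ∀ φ ψ i j k, c3 (φ + ψ) i j k = c3 φ i j k + c3 ψ i j k := fun φ ψ i j k => by
    have := eq_zero_of_forall_sum₃ hcard (c := c3 (φ + ψ) - (c3 φ + c3 ψ)) fun x y z => by
      simp only [Pi.sub_apply, Pi.add_apply, sub_mul, add_mul, Finset.sum_sub_distrib,
        Finset.sum_add_distrib, ← hc3]
      simp [f3]
    exact congrFun (congrFun (congrFun (sub_eq_zero.1 this) i) j) k
  have hT3 : ∀ φ i j k, c3 (φ.comp T₂) i j k =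
      ω ^ (p ^ (i : ℕ) + p ^ (j : ℕ) + p ^ (k : ℕ)) * c3 φ i j k := fun φ => by
    have := eq_zero_of_forall_sum₃ hcard (c := c3 (φ.comp T₂) -
      fun (i j k : Fin a) => ω ^ (p ^ (i : ℕ) + p ^ (j : ℕ) + p ^ (k : ℕ)) * c3 φ i j k) fun x y z => by
      simp only [Pi.sub_apply, sub_mul, Finset.sum_sub_distrib, ← hc3]
      have e : f3 φ (ω * x) (ω * y) (ω * z) = f3 (φ.comp T₂) x y z := by simp [f3, hD, hB]
      rw [← e, hc3, sub_eq_zero]
      refine Finset.sum_congr rfl fun i _ => Finset.sum_congr rfl fun j _ =>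
        Finset.sum_congr rfl fun k _ => ?_
      rw [mul_pow, mul_pow, mul_pow, pow_add, pow_add]; ring
    exact fun i j k => congrFun (congrFun (congrFun (sub_eq_zero.1 this) i) j) k
  -- partners in the first two slots
  have hpair : ∀ φ (i j k : Fin a), c3 φ i j k ≠ 0 →
      (i : ℕ) + n = j ∨ (j : ℕ) + n = i := by
    intro φ i j k hne
    have := eq_zero_of_forall_sum₃ hcard
      (c := fun i j k => c3 φ i j k * (ω₀ ^ p ^ (i : ℕ) * ω₀ ^ p ^ (j : ℕ) - 1)) fun x y z => by
      have e : f3 φ (ω₀ * x) (ω₀ * y) z = f3 φ x y z := by simp [f3, hinv]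
      rw [hc3, hc3, ← sub_eq_zero] at e
      refine Eq.trans ?_ e
      simp only [← Finset.sum_sub_distrib]
      refine Finset.sum_congr rfl fun i _ => Finset.sum_congr rfl fun j _ =>
        Finset.sum_congr rfl fun k _ => ?_
      rw [mul_pow, mul_pow]; ring
    have h0 := congrFun (congrFun (congrFun this i) j) k
    simp only [Pi.zero_apply, mul_eq_zero, hne, false_or, sub_eq_zero] at h0
    rw [← pow_add, hω₀, ← pow_mul, ← orderOf_dvd_iff_pow_eq_one, hord, hcard, mul_comm] at h0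
    exact (weight_two hp.two_le hn (by omega) i.2 j.2 h0).2
  have hcyc : ∀ φ (i j k : Fin a), c3 φ i j k + c3 φ j k i + c3 φ k i j = 0 := by
    intro φ
    have rot : ∀ G : Fin a → Fin a → Fin a → F,
        ∑ i, ∑ j, ∑ k, G i j k = ∑ j, ∑ k, ∑ i, G i j k := fun G => by
      rw [Finset.sum_comm]; exact Finset.sum_congr rfl fun j _ => Finset.sum_comm
    have := eq_zero_of_forall_sum₃ hcard
      (c := fun i j k => c3 φ i j k + c3 φ j k i + c3 φ k i j) fun x y z => by
      have e : f3 φ x y z + f3 φ y z x + f3 φ z x y = 0 := by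
        simp only [f3, AddMonoidHom.mk'_apply, AddMonoidHom.comp_apply]
        rw [← map_add, ← map_add, ← map_add, ← map_add, hJ, map_zero, map_zero]
      refine Eq.trans ?_ e
      rw [hc3, hc3, hc3]
      rw [rot fun i j k => c3 φ i j k * z ^ p ^ (i : ℕ) * x ^ p ^ (j : ℕ) * y ^ p ^ (k : ℕ),
        rot fun i j k => c3 φ i j k * y ^ p ^ (i : ℕ) * z ^ p ^ (j : ℕ) * x ^ p ^ (k : ℕ),
        rot fun j k i => c3 φ i j k * y ^ p ^ (i : ℕ) * z ^ p ^ (j : ℕ) * x ^ p ^ (k : ℕ)]
      simp only [← Finset.sum_add_distrib]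
      refine Finset.sum_congr rfl fun i _ => Finset.sum_congr rfl fun j _ =>
        Finset.sum_congr rfl fun k _ => ?_
      ring
    exact fun i j k => congrFun (congrFun (congrFun this i) j) k
  intro x y z
  refine (dual_facts h₂).2 _ fun φ => hι ?_
  rw [map_zero]
  refine (hc3 φ x y z).trans (Finset.sum_eq_zero fun i _ => Finset.sum_eq_zero fun j _ =>
    Finset.sum_eq_zero fun k _ => ?_)
  suffices c3 φ i j k = 0 by simp [this]
  by_contra hne
  have hij := hpair φ i j k hne
  have hk : (k : ℕ) = i ∨ (k : ℕ) = j := by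
    have h := hcyc φ i j k
    by_cases h1 : c3 φ j k i = 0
    · have h2 : c3 φ k i j ≠ 0 := fun h2 => hne (by simpa [h1, h2] using h)
      have := hpair φ k i j h2
      omega
    · have := hpair φ j k i h1
      omega
  obtain ⟨g, hg, hga, hdvd⟩ := exists_weight_period hcard hω0 hord h₂ hs₂ T₂
    (AddMonoidHom.mk' (fun φ => c3 φ i j k) fun φ ψ => hadd3 φ ψ i j k)
    (p ^ (i : ℕ) + p ^ (j : ℕ) + p ^ (k : ℕ)) (fun φ => hT3 φ i j k) ⟨φ, hne⟩
  -- the exponent is `2 p^u + p^v` with `|u - v| = n`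
  obtain ⟨u, v, huv, he⟩ : ∃ u v : ℕ, (u + n = v ∨ v + n = u) ∧
      p ^ (i : ℕ) + p ^ (j : ℕ) + p ^ (k : ℕ) = 2 * p ^ u + p ^ v := by
    rcases hk with hk | hk
    · exact ⟨i, j, hij, by rw [hk]; ring⟩
    · exact ⟨j, i, hij.symm, by rw [hk]; ring⟩
  rw [he] at hdvd
  have hga' : g ≤ n := by omega
  rcases huv with huv | huv <;> subst huv
  · refine weight_three hp.two_le hg hga' (l := u) ?_
    rw [hna]
    convert hdvd using 1
    rw [pow_add]; ring
  · refine weight_three hp.two_le hg hga' (l := v) ?_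
    rw [hna]
    have e : p ^ n * ((2 * p ^ (v + n) + p ^ v) * (p ^ g - 1)) =
        p ^ v * ((2 + p ^ n) * (p ^ g - 1)) + (p ^ a - 1) * (2 * p ^ v * (p ^ g - 1)) := by
      obtain ⟨m, hm⟩ : ∃ m, p ^ a = m + 1 :=
        ⟨p ^ a - 1, (Nat.sub_add_cancel (Nat.one_le_pow _ _ hp.pos)).symm⟩
      rw [hm, Nat.add_sub_cancel]
      have : p ^ n * p ^ n = m + 1 := by rw [← pow_add, ← two_mul, hna, hm]
      calc p ^ n * ((2 * p ^ (v + n) + p ^ v) * (p ^ g - 1))
          = (2 * p ^ v * (p ^ n * p ^ n) + p ^ v * p ^ n) * (p ^ g - 1) := by rw [pow_add]; ring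
        _ = _ := by rw [this]; ring
    have := Dvd.dvd.mul_left hdvd (p ^ n)
    rw [e] at this
    exact (Nat.dvd_add_left (Dvd.intro _ rfl)).1 this

end Field

section Group

variable {P : Type u} [Group P] [Finite P] {p : ℕ} [Fact p.Prime]

/-- The action on a layer, in the endomorphism ring. -/
def layerEnd (α : MulAut P) (i : ℕ) : AddMonoid.End (Layer P i) := layerMap α i

theorem layerEnd_pow_cls (α : MulAut P) {i : ℕ} (k : ℕ) {x : P} (hx : x ∈ gam P i) :
    (layerEnd α i ^ k) (cls P x hx) = cls P ((α ^ k) x) (gam_map_mem _ hx) := by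
  induction k generalizing x with
  | zero => exact cls_congr rfl _ _
  | succ k ih =>
    rw [pow_succ]
    show (layerEnd α i ^ k) (layerMap α i (cls P x hx)) = _
    rw [layerMap_cls, ih]
    exact cls_congr (by rw [pow_succ, MulAut.mul_apply]) _ _

theorem card_gam_succ (i : ℕ) : Nat.card (gam P i) = Nat.card (Layer P i) * Nat.card (gam P (i + 1)) := by
  rw [Subgroup.card_eq_card_quotient_mul_card_subgroup ((gam P (i + 1)).subgroupOf (gam P i)),
    Nat.card_congr (Subgroup.subgroupOfEquivOfLe (gam_antitone P (Nat.le_succ i))).toEquiv]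
  congr 1

/-- A layer above the bottom one is smaller than the centraliser of an element outside `P'`. -/
theorem card_layer_lt {i : ℕ} {x : P} (hx : x ∉ gam P 1) (hi : 1 ≤ i) {c : ℕ}
    (hc : Nat.card (centralizer ({x} : Set P)) ≤ c) : Nat.card (Layer P i) < c := by
  classical
  set N := gam P (i + 1)
  let C : Subgroup P :=
    (centralizer ({QuotientGroup.mk' N x} : Set (P ⧸ N))).comap (QuotientGroup.mk' N)
  have hmem : ∀ y, y ∈ C ↔ ⁅x, y⁆ ∈ N := fun y => by
    rw [mem_comap, mem_centralizer_singleton_iff, ← QuotientGroup.eq_one_iff,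
      ← QuotientGroup.mk'_apply, map_commutatorElement, commutatorElement_eq_one_iff_mul_comm]
    exact eq_comm
  -- the fibres of `y ↦ [x, y]` lie in cosets of the centraliser
  have hC : Nat.card C ≤ Nat.card N * Nat.card (centralizer ({x} : Set P)) := by
    let f : C → N := fun y => ⟨⁅x, (y : P)⁆, (hmem y).1 y.2⟩
    let sec : N → P := fun n => if h : ∃ y, f y = n then (Classical.choose h : C) else 1
    let F : C → N × centralizer ({x} : Set P) := fun y => (f y, ⟨(sec (f y))⁻¹ * y, by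
      have hex : ∃ z, f z = f y := ⟨y, rfl⟩
      have h := congrArg Subtype.val (Classical.choose_spec hex)
      simp only [sec, dif_pos hex]
      set z : P := ((Classical.choose hex : C) : P)
      have h' : ⁅x, z⁆ = ⁅x, (y : P)⁆ := h
      rw [commutatorElement_def, commutatorElement_def, mul_assoc x, mul_assoc x, mul_assoc x,
        mul_assoc x, mul_left_cancel_iff] at h'
      rw [mem_centralizer_singleton_iff]
      calc z⁻¹ * (y : P) * x = z⁻¹ * (y * x⁻¹ * (y : P)⁻¹)⁻¹ * (y : P) := by group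
        _ = z⁻¹ * (z * x⁻¹ * z⁻¹)⁻¹ * (y : P) := by rw [h']
        _ = x * (z⁻¹ * (y : P)) := by group⟩)
    rw [← Nat.card_prod]
    refine Nat.card_le_card_of_injective F fun y y' h => Subtype.ext ?_
    simp only [F, Prod.mk.injEq, Subtype.mk.injEq] at h
    obtain ⟨h1, h2⟩ := h
    rw [h1] at h2
    exact mul_left_cancel h2
  have hle : gam P i ≤ C := fun y hy =>
    (hmem y).2 (comm_mem_gam P (i := 0) (j := i) (k := i + 1) (by omega) (mem_top x) hy)
  have hxC : x ∈ C := (hmem x).2 (by rw [commutatorElement_self]; exact one_mem _)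
  have hlt : Nat.card (gam P i) < Nat.card C := by
    refine lt_of_le_of_ne (Subgroup.card_le_of_le hle) fun h => hx (gam_antitone P hi ?_)
    rw [Subgroup.eq_of_le_of_card_ge hle h.ge]
    exact hxC
  rw [card_gam_succ] at hlt
  have h3 : Nat.card (Layer P i) * Nat.card N < c * Nat.card N :=
    calc Nat.card (Layer P i) * Nat.card N < Nat.card C := hlt
      _ ≤ Nat.card N * Nat.card (centralizer ({x} : Set P)) := hC
      _ ≤ Nat.card N * c := Nat.mul_le_mul_left _ hc
      _ = c * Nat.card N := mul_comm _ _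
  exact Nat.lt_of_mul_lt_mul_right h3

/-- Additive maps vanishing on all brackets vanish on the next layer. -/
theorem layer_succ_eq_zero {i : ℕ} {X : Type*} [AddGroup X] (φ : Layer P (i + 1) →+ X)
    (h : ∀ (u : Layer P i) (v : Layer P 0), φ (commLayer (by omega) u v) = 0) : φ = 0 := by
  refine AddMonoidHom.ext fun w => ?_
  obtain ⟨z, hz, rfl⟩ := exists_cls w
  show φ (cls P z hz) = 0
  have hz' : z ∈ ⁅gam P i, gam P 0⁆ := (gam_comm_top P i).symm ▸ hz
  rw [Subgroup.commutator_def] at hz'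
  suffices ∀ z (hz : z ∈ closure {g | ∃ a ∈ gam P i, ∃ b ∈ gam P 0, ⁅a, b⁆ = g}),
      ∃ hz' : z ∈ gam P (i + 1), φ (cls P z hz') = 0 from (this z hz').2
  intro z hz
  induction hz using closure_induction with
  | mem g hg =>
    obtain ⟨a, ha, b, hb, rfl⟩ := hg
    exact ⟨comm_mem_gam P (by omega) ha hb, by
      have := h (cls P a ha) (cls P b hb)
      rwa [commLayer_cls] at this⟩
  | one => exact ⟨one_mem _, by rw [(cls_eq_zero_iff _).2 (one_mem _), map_zero]⟩
  | mul a b _ _ iha ihb =>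
    obtain ⟨ha, ea⟩ := iha
    obtain ⟨hb, eb⟩ := ihb
    exact ⟨mul_mem ha hb, by rw [cls_mul ha hb, map_add, ea, eb, add_zero]⟩
  | inv a _ iha =>
    obtain ⟨ha, ea⟩ := iha
    exact ⟨inv_mem ha, by rw [cls_inv ha, map_neg, ea, neg_zero]⟩

theorem gam_two_eq_bot (hP : IsPGroup p P) (α : MulAut P) (hexp : ∀ x : P, x ^ p ∈ gam P 1)
    (htrans : ∀ x y : P, x ∉ gam P 1 → y ∉ gam P 1 → ∃ k : ℕ, ((α ^ k) x)⁻¹ * y ∈ gam P 1)
    (x₀ : P) (hx₀ : x₀ ∉ gam P 1)
    (hcent : Nat.card (centralizer ({x₀} : Set P)) ≤ (gam P 1).index) : gam P 2 = ⊥ := by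
  classical
  have hp := (Fact.out : p.Prime)
  let T : AddMonoid.End (Layer P 0) := layerEnd α 0
  set v₀ := cls P x₀ (show x₀ ∈ gam P 0 from mem_top x₀)
  have hv₀ : v₀ ≠ 0 := fun h => hx₀ ((cls_eq_zero_iff _).1 h)
  have hV : ∀ v : Layer P 0, p • v = 0 := by
    intro v
    obtain ⟨x, hx, rfl⟩ := exists_cls v
    have e : ∀ k : ℕ, cls P (x ^ k) (pow_mem hx k) = k • cls P x hx := fun k => by
      induction k with
      | zero => rw [zero_nsmul]; exact (cls_eq_zero_iff _).2 (by rw [pow_zero]; exact one_mem _)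
      | succ k ih =>
        rw [succ_nsmul, ← ih, ← cls_mul]
        exact cls_congr (pow_succ x k) _ _
    rw [← e]
    exact (cls_eq_zero_iff _).2 (hexp x)
  have hTtrans : ∀ u v : Layer P 0, u ≠ 0 → v ≠ 0 → ∃ k : ℕ, (T ^ k) u = v := by
    intro u v hu hv
    obtain ⟨x, hx, rfl⟩ := exists_cls u
    obtain ⟨y, hy, rfl⟩ := exists_cls v
    obtain ⟨k, hk⟩ := htrans x y (fun h => hu ((cls_eq_zero_iff _).2 h))
      fun h => hv ((cls_eq_zero_iff _).2 h)
    exact ⟨k, (layerEnd_pow_cls α k hx).trans ((cls_eq_iff _ _).2 hk)⟩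
  -- the field of endomorphisms generated by `T`
  let R := Subring.closure ({T} : Set (AddMonoid.End (Layer P 0)))
  have hRcomm : ∀ r ∈ R, ∀ s ∈ R, Commute r s := by
    intro r hr s hs
    induction hr using Subring.closure_induction with
    | mem a ha =>
      induction hs using Subring.closure_induction with
      | mem b hb =>
        rw [Set.mem_singleton_iff] at ha hb
        rw [ha, hb]
      | zero => exact Commute.zero_right _
      | one => exact Commute.one_right _
      | add _ _ _ _ h1 h2 => exact h1.add_right h2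
      | neg _ _ h1 => exact h1.neg_right
      | mul _ _ _ _ h1 h2 => exact h1.mul_right h2
    | zero => exact Commute.zero_left _
    | one => exact Commute.one_left _
    | add _ _ _ _ h1 h2 => exact h1.add_left h2
    | neg _ _ h1 => exact h1.neg_left
    | mul _ _ _ _ h1 h2 => exact h1.mul_left h2
  have hTR : T ∈ R := Subring.subset_closure rfl
  let ev : R →+ Layer P 0 := AddMonoidHom.mk' (fun r => (r : AddMonoid.End _) v₀) fun r s => rfl
  have hev : Function.Injective ev := by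
    rw [injective_iff_map_eq_zero]
    intro r hr
    refine Subtype.ext (AddMonoidHom.ext fun v => ?_)
    show (r : AddMonoid.End (Layer P 0)) v = 0
    rcases eq_or_ne v 0 with rfl | hv
    · exact map_zero _
    · obtain ⟨k, rfl⟩ := hTtrans v₀ v hv₀ hv
      have h := congrArg (fun f : AddMonoid.End (Layer P 0) => f v₀)
        (hRcomm r r.2 (T ^ k) (pow_mem hTR k)).eq
      refine Eq.trans h ?_
      exact (congrArg (T ^ k) hr).trans (map_zero (T ^ k))
  let ω : R := ⟨T, hTR⟩
  have hωk : ∀ k : ℕ, ev (ω ^ k) = (T ^ k) v₀ := fun k => rfl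
  have hev' : Function.Surjective ev := fun v => by
    rcases eq_or_ne v 0 with rfl | hv
    · exact ⟨0, map_zero _⟩
    · obtain ⟨k, rfl⟩ := hTtrans v₀ v hv₀ hv
      exact ⟨ω ^ k, hωk k⟩
  have hpowers : ∀ r : R, r ≠ 0 → ∃ k : ℕ, r = ω ^ k := fun r hr => by
    obtain ⟨k, hk⟩ := hTtrans v₀ (ev r) hv₀ fun h => hr (hev (h.trans (map_zero ev).symm))
    exact ⟨k, hev (hk.symm.trans (hωk k).symm)⟩
  have h10 : (1 : R) ≠ 0 := fun h => hv₀ (show ev 1 = 0 by rw [h, map_zero])
  have hunit : ∀ r : R, r ≠ 0 → ∃ s, r * s = 1 := by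
    intro r hr
    obtain ⟨k, rfl⟩ := hpowers r hr
    have hne : (T ^ k) v₀ ≠ 0 := fun h => hr (hev ((hωk k).trans (h.trans (map_zero ev).symm)))
    obtain ⟨j, hj⟩ := hTtrans _ v₀ hne hv₀
    refine ⟨ω ^ j, ?_⟩
    rw [← pow_add]
    apply hev
    rw [hωk, show T ^ (k + j) = T ^ j * T ^ k from (pow_add T k j).trans (pow_mul_comm T k j)]
    exact hj
  have hfield : IsField R :=
    { exists_pair_ne := ⟨1, 0, h10⟩
      mul_comm := fun r s => Subtype.ext (hRcomm r r.2 s s.2).eq
      mul_inv_cancel := fun {r} hr => hunit r hr }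
  letI : Field R := hfield.toField
  haveI : Finite R := Finite.of_injective _ hev
  haveI : CharP R p := (CharP.charP_iff_prime_eq_zero hp).2 (hev (by
    rw [map_zero, show ((p : ℕ) : R) = p • (1 : R) by simp, map_nsmul, hV]))
  let e : R ≃+ Layer P 0 := AddEquiv.ofBijective ev ⟨hev, hev'⟩
  have hTe : ∀ r : R, layerMap α 0 (e r) = e (ω * r) := fun r => rfl
  have hω0 : ω ≠ 0 := fun h => by
    have h1 : layerMap α 0 v₀ = 0 := (congrArg ev h).trans (map_zero ev)
    rw [layerMap_cls, cls_eq_zero_iff] at h1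
    exact hx₀ (by simpa using gam_map_mem α⁻¹ h1)
  have hord : orderOf ω = Nat.card R - 1 := by
    have hgen : ∀ u : Rˣ, u ∈ zpowers (Units.mk0 ω hω0) := fun u => by
      obtain ⟨k, hk⟩ := hpowers u u.ne_zero
      exact ⟨k, Units.ext (by simp [hk])⟩
    rw [← Units.val_mk0 hω0, orderOf_units, orderOf_eq_card_of_forall_mem_zpowers hgen,
      Nat.card_units]
  obtain ⟨a, hRcard⟩ : ∃ a, Nat.card R = p ^ a := by
    haveI := Fintype.ofFinite R
    obtain ⟨g, -, hg⟩ := FiniteField.card R p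
    exact ⟨g, by rw [Nat.card_eq_fintype_card, hg]⟩
  have hq : (gam P 1).index = p ^ a := by
    rw [← hRcard, Nat.card_congr e.toEquiv]
    have h := card_gam_succ (P := P) 0
    rw [show gam P 0 = (⊤ : Subgroup P) from rfl, card_top, ← (gam P 1).index_mul_card] at h
    exact Nat.eq_of_mul_eq_mul_right Nat.card_pos h
  rw [hq] at hcent
  -- exponent `p` above
  have hstep : ∀ i, (∀ w : Layer P i, p • w = 0) → ∀ w : Layer P (i + 1), p • w = 0 := fun i _ w =>
    DFunLike.congr_fun (layer_succ_eq_zero (i := i) (nsmulAddMonoidHom p) fun u v => by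
      show p • (_ : Layer P (i + 1)) = 0
      rw [← map_nsmul, hV, map_zero]) w
  have hW₁ := hstep 0 hV
  have hW₂ := hstep 1 hW₁
  let B : R →+ R →+ Layer P 1 := AddMonoidHom.mk'
    (fun x => (commLayer (G := P) (i := 0) (j := 0) (k := 1) rfl (e x)).comp e.toAddMonoidHom)
    fun x y => AddMonoidHom.ext fun z => by simp
  let D : Layer P 1 →+ R →+ Layer P 2 := AddMonoidHom.mk'
    (fun w => (commLayer (G := P) (i := 1) (j := 0) (k := 2) rfl w).comp e.toAddMonoidHom)
    fun x y => AddMonoidHom.ext fun z => by simp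
  have hnat : ∀ {i j k : ℕ} (h : i + j + 1 = k) (u : Layer P i) (v : Layer P j),
      layerMap α k (commLayer h u v) = commLayer h (layerMap α i u) (layerMap α j v) := by
    intro i j k h u v
    obtain ⟨x, hx, rfl⟩ := exists_cls u
    obtain ⟨y, hy, rfl⟩ := exists_cls v
    rw [commLayer_cls, layerMap_cls, layerMap_cls, layerMap_cls, commLayer_cls]
    exact cls_congr (map_commutatorElement α x y) _ _
  have hJac : ∀ u v w : Layer P 0,
      commLayer (G := P) (i := 1) (j := 0) (k := 2) rfl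
          (commLayer (i := 0) (j := 0) (k := 1) rfl u v) w +
        commLayer (G := P) (i := 1) (j := 0) (k := 2) rfl
          (commLayer (i := 0) (j := 0) (k := 1) rfl v w) u +
        commLayer (G := P) (i := 1) (j := 0) (k := 2) rfl
          (commLayer (i := 0) (j := 0) (k := 1) rfl w u) v = 0 := by
    intro u v w
    obtain ⟨x, hx, rfl⟩ := exists_cls u
    obtain ⟨y, hy, rfl⟩ := exists_cls v
    obtain ⟨z, hz, rfl⟩ := exists_cls w
    simp only [commLayer_cls]
    have h := bracket_jacobi_cyclic (gen 3 0 x hx) (gen 3 0 y hy) (gen 3 0 z hz)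
    simp only [bracket_gen] at h
    rw [gen_of_lt (by norm_num), gen_of_lt (by norm_num), gen_of_lt (by norm_num)] at h
    have h2 := congrFun h ⟨2, by norm_num⟩
    simpa using h2
  have hzero := trilinear_eq_zero hRcard hω0 hord hW₁ hW₂
    (card_layer_lt hx₀ le_rfl hcent) (card_layer_lt hx₀ (by norm_num) hcent)
    (layerMap α 1) (layerMap α 2) B D
    (fun x y => by
      show layerMap α 1 (commLayer _ (e x) (e y)) = commLayer _ (e (ω * x)) (e (ω * y))
      rw [hnat, hTe, hTe])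
    (fun w z => by
      show layerMap α 2 (commLayer _ w (e z)) = commLayer _ (layerMap α 1 w) (e (ω * z))
      rw [hnat, hTe])
    (fun x y z => hJac (e x) (e y) (e z))
  have hid : AddMonoidHom.id (Layer P 2) = 0 := layer_succ_eq_zero (i := 1) _ fun w v => by
    obtain ⟨z, rfl⟩ := e.surjective v
    have hD0 : AddMonoidHom.flip D z = 0 := layer_succ_eq_zero (i := 0) _ fun u v => by
      obtain ⟨x, rfl⟩ := e.surjective u
      obtain ⟨y, rfl⟩ := e.surjective v
      exact hzero x y z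
    exact DFunLike.congr_fun hD0 w
  have h23 : gam P 2 ≤ gam P 3 := fun z hz =>
    (cls_eq_zero_iff hz).1 (DFunLike.congr_fun hid (cls P z hz))
  have hle : ∀ k, gam P 2 ≤ gam P (2 + k) := by
    intro k
    induction k with
    | zero => exact le_rfl
    | succ k ih =>
      refine h23.trans ?_
      show ⁅gam P 2, ⊤⁆ ≤ ⁅gam P (2 + k), ⊤⁆
      exact commutator_mono ih le_rfl
  haveI := hP.isNilpotent
  obtain ⟨c, hc⟩ := Subgroup.nilpotent_iff_lowerCentralSeries.1 (inferInstance : Group.IsNilpotent P)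
  exact le_bot_iff.1 ((hle c).trans ((gam_antitone P (by omega)).trans hc.le))

end Group

end Cfsg.Agent.OneNonlinear
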