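import Cfsg.Agent.Lib.Coprime.Action
import Cfsg.Agent.Lib.PGroup.Basic
import Mathlib.Tactic.LinearCombination
import Mathlib.RingTheory.Int.Basic

/-!
# Powers of fixed-point-free elements outside `T`

`apply_pow_eq_one`: if a `p`-group `P` acts coprimely on `M` and every element outside `T ⊇ P'`,
where `P / T` is noncyclic of exponent `p`, has no nontrivial fixed point, then neither has the
`p`-th power of such an element.
-/

namespace Cfsg.Agent.OneNonlinear

open Subgroup
open scoped commutatorElement Pointwise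

set_option linter.style.haveILetI false

universe u v

theorem not_isCyclic_of_exponent {A : Type*} [Group A] [Finite A] {p : ℕ} [hp : Fact p.Prime]
    (hexp : ∀ a : A, a ^ p = 1) {a b : A} (ha : a ≠ 1) (hb : b ∉ zpowers a) : ¬ IsCyclic A := by
  intro hc
  obtain ⟨g, hg⟩ := IsCyclic.exists_generator (α := A)
  have hcard : Nat.card A ∣ p := by
    rw [← orderOf_eq_card_of_forall_mem_zpowers hg]; exact orderOf_dvd_of_pow_eq_one (hexp g)
  have hord : orderOf a = p := orderOf_eq_prime (hexp a) ha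
  have htop : zpowers a = ⊤ := eq_top_of_le_card _ (by
    rw [Nat.card_zpowers, hord]; exact Nat.le_of_dvd hp.out.pos hcard)
  exact hb (htop ▸ mem_top b)

/-- The restriction of an automorphism group to an invariant subgroup. -/
def restrictHom {A M : Type*} [Group A] [Group M] (φ : A →* MulAut M) (W : Subgroup M)
    (h : ∀ a, ∀ w ∈ W, φ a w ∈ W) : A →* MulAut W :=
  MonoidHom.mk'
    (fun a =>
      { toFun := fun w => ⟨φ a w, h a w w.2⟩
        invFun := fun w => ⟨φ a⁻¹ w, h a⁻¹ w w.2⟩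
        left_inv := fun w => Subtype.ext (by simp)
        right_inv := fun w => Subtype.ext (by simp)
        map_mul' := fun x y => Subtype.ext (map_mul _ _ _) })
    fun a b => MulEquiv.ext fun w => Subtype.ext (by simp)

@[simp] theorem restrictHom_apply {A M : Type*} [Group A] [Group M] (φ : A →* MulAut M)
    (W : Subgroup M) (h : ∀ a, ∀ w ∈ W, φ a w ∈ W) (a : A) (w : W) :
    (restrictHom φ W h a w : M) = φ a w := rfl

theorem dvd_of_zpow_mem {P : Type*} [Group P] (T : Subgroup P) {p : ℕ} [hp : Fact p.Prime]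
    {x : P} (hx : x ∉ T) (hxp : x ^ p ∈ T) {i : ℤ} (hi : x ^ i ∈ T) : (p : ℤ) ∣ i := by
  by_contra hi'
  obtain ⟨u, v, huv⟩ := (Nat.prime_iff_prime_int.1 hp.out).coprime_iff_not_dvd.2 hi'
  apply hx
  have : x = (x ^ i) ^ v * (x ^ p) ^ u := by
    rw [← zpow_mul, ← zpow_natCast x p, ← zpow_mul, ← zpow_add, add_comm,
      show (p : ℤ) * u + i * v = 1 by linear_combination huv, zpow_one]
  rw [this]
  exact mul_mem (T.zpow_mem hi v) (T.zpow_mem hxp u)

theorem apply_pow_eq_one {p : ℕ} [hp : Fact p.Prime] (n : ℕ) :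
    ∀ (P : Type u) [Group P] [Finite P], Nat.card P ≤ n → IsPGroup p P →
    ∀ (M : Type v) [Group M] [Finite M] (φ : P →* MulAut M), (Nat.card P).Coprime (Nat.card M) →
    ∀ (T : Subgroup P) [T.Normal], (∀ x : P, x ^ p ∈ T) → (∀ x y : P, ⁅x, y⁆ ∈ T) →
      (∀ x : P, T ⊔ zpowers x ≠ ⊤) → (∀ x ∉ T, ∀ m, φ x m = m → m = 1) →
      ∀ x ∉ T, ∀ m, φ (x ^ p) m = m → m = 1 := by
  induction n with
  | zero => intro P _ _ hn; exact absurd hn (by have := Nat.card_pos (α := P); omega)
  | succ n ih =>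
  intro P _ _ hn hP M _ _ φ hcop T _ hexp hcomm hnc hfpf x hx m hm
  classical
  by_cases hT : T = ⊥
  · -- `P` is elementary abelian and noncyclic
    subst hT
    letI : CommGroup P :=
      { (inferInstance : Group P) with
        mul_comm := fun a b => commutatorElement_eq_one_iff_mul_comm.1 (mem_bot.1 (hcomm a b)) }
    have hA : ¬ IsCyclic P := fun hc => by
      obtain ⟨g, hg⟩ := IsCyclic.exists_generator (α := P)
      exact hnc g (eq_top_iff.2 fun y _ => mem_sup_right (hg y))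
    have hS := Coprime.eq_top_of_forall_fixedBy_le φ hA hcop (S := ⊥) fun a ha k hk => by
      rw [hfpf a (fun h => ha (mem_bot.1 h)) k hk]; exact one_mem _
    exact mem_bot.1 (hS ▸ mem_top m)
  -- a central element of order `p` in `T`
  obtain ⟨⟨z₀, hz₀⟩, hz₀1⟩ :=
    Subgroup.ne_bot_iff_exists_ne_one.1 (PGroup.inf_center_ne_bot hP T hT)
  obtain ⟨k, hk⟩ := hP z₀
  obtain ⟨z, hzT, hzc, hz⟩ : ∃ z ∈ T, z ∈ Subgroup.center P ∧ orderOf z = p := by
    obtain ⟨j, -, hj⟩ := (Nat.dvd_prime_pow hp.out).1 (orderOf_dvd_of_pow_eq_one hk)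
    rcases j with _ | j
    · exact absurd (Subtype.ext (orderOf_eq_one_iff.1 (by simpa using hj))) hz₀1
    refine ⟨z₀ ^ p ^ j, T.pow_mem hz₀.1 _, pow_mem hz₀.2 _, ?_⟩
    rw [orderOf_pow' _ (pow_ne_zero _ hp.out.ne_zero), hj,
      Nat.gcd_eq_right (pow_dvd_pow _ j.le_succ), pow_succ, Nat.mul_div_cancel_left _ (pow_pos hp.out.pos _)]
  set Z := zpowers z
  have hZc : Z ≤ Subgroup.center P := zpowers_le.2 hzc
  haveI : Z.Normal := ⟨fun a ha g => by
    rw [(mem_center_iff.1 (hZc ha) g), mul_inv_cancel_right]; exact ha⟩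
  have hZT : Z ≤ T := zpowers_le.2 hzT
  -- the fixed points of `z`
  let M₀ : Subgroup M := Coprime.fixedBy (φ.comp Z.subtype)
  have hM₀ : ∀ a : P, ∀ w ∈ M₀, φ a w ∈ M₀ := fun a w hw c => by
    show φ (c : P) (φ a w) = φ a w
    rw [← MulAut.mul_apply, ← map_mul, ← mem_center_iff.1 (hZc c.2) a, map_mul, MulAut.mul_apply]
    exact congrArg (φ a) (hw c)
  let φ₀ : P ⧸ Z →* MulAut M₀ := QuotientGroup.lift Z (restrictHom φ M₀ hM₀) fun c hc =>
    MulEquiv.ext fun w => Subtype.ext (w.2 ⟨c, hc⟩)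
  have hφ₀ : ∀ (a : P) (w : M₀), (φ₀ (QuotientGroup.mk' Z a) w : M) = φ a w := fun a w => rfl
  have hlt : Nat.card (P ⧸ Z) ≤ n := by
    have h := Subgroup.card_eq_card_quotient_mul_card_subgroup Z
    rw [show Nat.card Z = p by rw [Nat.card_zpowers, hz]] at h
    have h2 : Nat.card (P ⧸ Z) * 2 ≤ Nat.card (P ⧸ Z) * p := Nat.mul_le_mul_left _ hp.out.two_le
    have h3 := Nat.card_pos (α := P ⧸ Z)
    omega
  have hker : ∀ y, QuotientGroup.mk' Z y ∈ T.map (QuotientGroup.mk' Z) ↔ y ∈ T := fun y => by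
    refine ⟨fun ⟨t, ht, he⟩ => ?_, fun h => mem_map_of_mem _ h⟩
    rw [QuotientGroup.mk'_eq_mk'] at he
    obtain ⟨c, hc, rfl⟩ := he
    exact mul_mem ht (hZT hc)
  haveI : (T.map (QuotientGroup.mk' Z)).Normal :=
    Subgroup.Normal.map inferInstance _ (QuotientGroup.mk'_surjective Z)
  have hstep : ∀ w, φ z w = w → φ (x ^ p) w = w → w = 1 := by
    intro w hwz hwx
    have hwM : w ∈ M₀ := by
      intro c
      obtain ⟨i, hi⟩ := mem_zpowers_iff.1 c.2
      show φ (c : P) w = w
      rw [← hi, map_zpow]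
      exact MulAction.mem_stabilizer_iff.1 (Subgroup.zpow_mem (MulAction.stabilizer (MulAut M) w) hwz i)
    refine congrArg Subtype.val (ih (P ⧸ Z) hlt (hP.to_quotient Z) M₀ φ₀
      (hcop.of_dvd (Dvd.intro _ (Subgroup.card_eq_card_quotient_mul_card_subgroup Z).symm)
        (Subgroup.card_subgroup_dvd_card M₀))
      (T.map (QuotientGroup.mk' Z)) (fun y => ?_) (fun y y' => ?_) (fun y htop => ?_)
      (fun y hy w hw => ?_) (QuotientGroup.mk' Z x) (fun h => hx ((hker x).1 h)) ⟨w, hwM⟩ ?_)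
    · obtain ⟨y, rfl⟩ := QuotientGroup.mk'_surjective Z y
      rw [← map_pow]; exact (hker _).2 (hexp y)
    · obtain ⟨y, rfl⟩ := QuotientGroup.mk'_surjective Z y
      obtain ⟨y', rfl⟩ := QuotientGroup.mk'_surjective Z y'
      rw [← map_commutatorElement]; exact (hker _).2 (hcomm y y')
    · obtain ⟨y, rfl⟩ := QuotientGroup.mk'_surjective Z y
      rw [← MonoidHom.map_zpowers, ← Subgroup.map_sup] at htop
      refine hnc y (eq_top_iff.2 fun u _ => ?_)
      obtain ⟨t, ht, he⟩ : QuotientGroup.mk' Z u ∈ (T ⊔ zpowers y).map (QuotientGroup.mk' Z) :=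
        htop ▸ mem_top _
      rw [QuotientGroup.mk'_eq_mk'] at he
      obtain ⟨c, hc, rfl⟩ := he
      exact mul_mem ht (mem_sup_left (hZT hc))
    · obtain ⟨y, rfl⟩ := QuotientGroup.mk'_surjective Z y
      exact Subtype.ext (hfpf y (fun h => hy ((hker y).2 h)) w (congrArg Subtype.val hw))
    · rw [← map_pow]
      exact Subtype.ext hwx
  -- the fixed points of `x ^ p`
  let W : Subgroup M := Coprime.fixedBy (φ.comp (zpowers (x ^ p)).subtype)
  have hWmem : ∀ w, w ∈ W ↔ φ (x ^ p) w = w := fun w => by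
    refine ⟨fun h => h ⟨x ^ p, mem_zpowers _⟩, fun h c => ?_⟩
    obtain ⟨i, hi⟩ := mem_zpowers_iff.1 c.2
    show φ (c : P) w = w
    rw [← hi, map_zpow]
    exact MulAction.mem_stabilizer_iff.1 (Subgroup.zpow_mem (MulAction.stabilizer (MulAut M) w) h i)
  by_contra hm1
  let C := centralizer ({x ^ p} : Set P)
  have hWinv : ∀ c : C, ∀ w ∈ W, (φ.comp C.subtype) c w ∈ W := fun c w hw => by
    rw [hWmem] at hw ⊢
    show φ (x ^ p) (φ (c : P) w) = φ (c : P) w
    rw [← MulAut.mul_apply, ← map_mul, ← mem_centralizer_singleton_iff.1 c.2, map_mul,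
      MulAut.mul_apply, hw]
  let r := restrictHom (φ.comp C.subtype) W hWinv
  let xc : C := ⟨x, mem_centralizer_singleton_iff.2 (Commute.self_pow x p)⟩
  let zc : C := ⟨z, mem_centralizer_singleton_iff.2 (mem_center_iff.1 hzc (x ^ p)).symm⟩
  have hab : Commute (r xc) (r zc) := (show Commute xc zc from
    Subtype.ext (mem_center_iff.1 hzc x)).map r
  let A : Subgroup (MulAut W) := zpowers (r xc) ⊔ zpowers (r zc)
  have hap : (r xc) ^ p = 1 := by
    rw [← map_pow]
    exact MulEquiv.ext fun w => Subtype.ext ((hWmem _).1 w.2)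
  have hbp : (r zc) ^ p = 1 := by
    rw [← map_pow, show zc ^ p = 1 from Subtype.ext (by
      show z ^ p = 1; rw [← hz, pow_orderOf_eq_one]), map_one]
  have hAmem : ∀ u : MulAut W, u ∈ A → ∃ i j : ℤ, u = r xc ^ i * r zc ^ j := by
    intro u hu
    have hn : zpowers (r xc) ≤ normalizer (zpowers (r zc) : Set (MulAut W)) := by
      rw [zpowers_le]
      refine centralizer_le_normalizer _ (mem_centralizer_iff.2 fun y hy => ?_)
      obtain ⟨i, rfl⟩ := mem_zpowers_iff.1 hy
      exact ((hab.zpow_right i).symm).eq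
    have : u ∈ (zpowers (r xc) : Set (MulAut W)) * zpowers (r zc) := by
      rw [← coe_mul_of_left_le_normalizer_right _ _ hn]; exact hu
    obtain ⟨_, ⟨i, rfl⟩, _, ⟨j, rfl⟩, rfl⟩ := this
    exact ⟨i, j, rfl⟩
  letI : CommGroup A :=
    { (inferInstance : Group A) with
      mul_comm := fun u v => Subtype.ext (by
        obtain ⟨i, j, hu⟩ := hAmem u u.2
        obtain ⟨i', j', hv⟩ := hAmem v v.2
        show (u : MulAut W) * v = v * u
        rw [hu, hv]
        exact ((((Commute.refl _).zpow_zpow i i').mul_right (hab.zpow_zpow i j')).mul_left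
          ((hab.symm.zpow_zpow j i').mul_right ((Commute.refl _).zpow_zpow j j'))).eq) }
  haveI : Finite (MulAut W) := Finite.of_injective _ DFunLike.coe_injective
  have hexpA : ∀ u : A, u ^ p = 1 := fun u => Subtype.ext (by
    obtain ⟨i, j, hu⟩ := hAmem u u.2
    show (u : MulAut W) ^ p = 1
    rw [hu, ((hab.zpow_zpow i j)).mul_pow, ← zpow_natCast, ← zpow_natCast, ← zpow_mul, ← zpow_mul,
      mul_comm i, mul_comm j, zpow_mul, zpow_mul, zpow_natCast, zpow_natCast, hap, hbp, one_zpow,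
      one_zpow, one_mul])
  let mW : W := ⟨m, (hWmem m).2 hm⟩
  -- no nonidentity element of `A` has a fixed point on `W`
  have hfix : ∀ (i j : ℤ) (w : W), (r xc ^ i * r zc ^ j) w = w →
      r xc ^ i * r zc ^ j = 1 ∨ w = 1 := by
    intro i j w hw
    by_cases hi : (p : ℤ) ∣ i
    · obtain ⟨i', rfl⟩ := hi
      rw [zpow_mul, zpow_natCast, hap, one_zpow, one_mul] at hw ⊢
      by_cases hj : (p : ℤ) ∣ j
      · obtain ⟨j', rfl⟩ := hj
        left; rw [zpow_mul, zpow_natCast, hbp, one_zpow]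
      · right
        refine Subtype.ext (hstep w ?_ ((hWmem _).1 w.2))
        obtain ⟨u, v, huv⟩ := (Nat.prime_iff_prime_int.1 hp.out).coprime_iff_not_dvd.2 hj
        have h1 : ((r zc ^ j) ^ v) w = w := MulAction.mem_stabilizer_iff.1
          (Subgroup.zpow_mem (MulAction.stabilizer (MulAut W) w) hw v)
        rw [← zpow_mul, show j * v = 1 + (p : ℤ) * (-u) by linear_combination huv, zpow_add,
          zpow_mul, zpow_natCast, hbp, one_zpow, mul_one, zpow_one] at h1
        exact congrArg Subtype.val h1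
    · right
      have hy : x ^ i * z ^ j ∉ T := fun h => hi
        (dvd_of_zpow_mem T hx (hexp x) ((mul_mem_cancel_right (T.zpow_mem hzT j)).1 h))
      refine Subtype.ext (hfpf _ hy w ?_)
      have h1 : r xc ^ i * r zc ^ j = r (xc ^ i * zc ^ j) := by rw [map_mul, map_zpow, map_zpow]
      rw [h1] at hw
      exact congrArg Subtype.val hw
  have hmW : mW ≠ 1 := fun h => hm1 (congrArg Subtype.val h)
  have ha1 : r xc ≠ 1 := fun h => hm1 (hfpf x hx m (congrArg Subtype.val
    (DFunLike.congr_fun h mW)))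
  have hb : r zc ∉ zpowers (r xc) := by
    intro h
    obtain ⟨j, hj⟩ := mem_zpowers_iff.1 h
    by_cases hjp : (p : ℤ) ∣ j
    · obtain ⟨j', rfl⟩ := hjp
      rw [zpow_mul, zpow_natCast, hap, one_zpow] at hj
      exact hm1 (hstep m (congrArg Subtype.val (DFunLike.congr_fun hj.symm mW)) hm)
    · rcases hfix j (-1) mW (by rw [hj, zpow_neg, zpow_one, mul_inv_cancel]; rfl) with - | h1
      · have hy : x ^ j * z ^ (-1 : ℤ) ∉ T := fun h => hjp
          (dvd_of_zpow_mem T hx (hexp x) ((mul_mem_cancel_right (T.zpow_mem hzT (-1))).1 h))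
        refine hm1 (hfpf _ hy m ?_)
        have h2 : r (xc ^ j * zc ^ (-1 : ℤ)) = 1 := by
          rw [map_mul, map_zpow, map_zpow, hj, zpow_neg, zpow_one, mul_inv_cancel]
        exact congrArg Subtype.val (DFunLike.congr_fun h2 mW)
      · exact hmW h1
  have hnA : ¬ IsCyclic A := not_isCyclic_of_exponent hexpA
    (a := ⟨r xc, mem_sup_left (mem_zpowers _)⟩) (b := ⟨r zc, mem_sup_right (mem_zpowers _)⟩)
    (fun h => ha1 (congrArg Subtype.val h)) fun h => hb (by
      obtain ⟨j, hj⟩ := mem_zpowers_iff.1 h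
      exact ⟨j, congrArg Subtype.val hj⟩)
  have hcopA : (Nat.card A).Coprime (Nat.card W) := by
    have hAp : IsPGroup p A := fun u => ⟨1, by rw [pow_one]; exact hexpA u⟩
    obtain ⟨e, he⟩ := IsPGroup.iff_card.1 hAp
    rw [he]
    refine Nat.Coprime.pow_left _ ?_
    have hpM : p.Coprime (Nat.card M) := by
      refine hcop.coprime_dvd_left ?_
      rw [← hz]; exact orderOf_dvd_natCard z
    exact hpM.coprime_dvd_right (Subgroup.card_subgroup_dvd_card W)
  have hS := Coprime.eq_top_of_forall_fixedBy_le A.subtype hnA hcopA (S := ⊥) fun u hu w hw => by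
    obtain ⟨i, j, he⟩ := hAmem u u.2
    rcases hfix i j w (by rw [← he]; exact hw) with h | h
    · exact absurd (Subtype.ext (he.trans h)) hu
    · rw [h]; exact one_mem _
  exact hmW (mem_bot.1 (hS ▸ mem_top mW))

end Cfsg.Agent.OneNonlinear
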