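import Cfsg.Agent.Lib.OneNonlinear.Basic
import Cfsg.Agent.Lib.OneNonlinear.ClassTwo
import Cfsg.Agent.Lib.OneNonlinear.PowerFixed
import Cfsg.Agent.Lib.PComplement.FixedPointFree
import Cfsg.Agent.S0041

/-!
# The class `G' \ K`, the case `|G' : K| > 2`

`isSolvable_case_big`: `G / K` is a Frobenius group with elementary kernel `G' / K` of order `q`
and `|C(x)| = q` for `x ∈ G' \ K`.  A Sylow subgroup `P` of `G'` with `T = P ∩ K` has `T = P'`
and, by the Singer automorphism, class two, so `x ^ p` acts without fixed points and with order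
`p` on the `p`-complement of `K`.
-/

namespace Cfsg.Agent.OneNonlinear

open Subgroup LieGraded
open scoped commutatorElement Pointwise

set_option linter.style.haveILetI false

universe u

variable {G : Type u} [Group G] [Finite G]

theorem isSolvable_case_big (A K : Subgroup G) [A.Normal] [K.Normal] (hA : A = commutator G)
    (hKA : K ≤ A) {p : ℕ} [hp : Fact p.Prime] (hexp : ∀ a ∈ A, a ^ p ∈ K)
    (habel : ∀ a ∈ A, ∀ b ∈ A, ⁅a, b⁆ ∈ K)
    (hconj : ∀ a ∈ A, a ∉ K → ∀ b ∈ A, b ∉ K → IsConj a b)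
    (hcent : ∀ x, x ∉ A → ∃ y, ⁅x, y⁆ ∉ K)
    (g : G) (hgA : g ∈ A) (hgK : g ∉ K) (hbig : ∃ b ∈ A, b ∉ K ∧ g⁻¹ * b ∉ K)
    (hcard : ∀ x ∈ A, x ∉ K →
      Nat.card (centralizer ({x} : Set G)) * (Nat.card ↥(A.map (QuotientGroup.mk' K)) - 1) =
        K.index) :
    Group.IsSolvable G := by
  classical
  have hcomm : ∀ x y, ⁅x, y⁆ ∈ A := fun x y => by
    rw [hA]; exact commutator_mem_commutator (mem_top x) (mem_top y)
  set π := QuotientGroup.mk' K
  have hπ : ∀ x, π x = 1 ↔ x ∈ K := fun x => QuotientGroup.eq_one_iff x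
  set V := A.map π
  have hVmem : ∀ x, π x ∈ V ↔ x ∈ A := fun x => by
    refine ⟨fun ⟨a, ha, he⟩ => ?_, fun h => mem_map_of_mem π h⟩
    rw [QuotientGroup.mk'_eq_mk'] at he
    obtain ⟨k, hk, rfl⟩ := he
    exact mul_mem ha (hKA hk)
  haveI hVn : V.Normal := Normal.map inferInstance π (QuotientGroup.mk'_surjective K)
  haveI hVc : IsMulCommutative V := ⟨⟨by
    rintro ⟨_, a, ha, rfl⟩ ⟨_, b, hb, rfl⟩
    refine Subtype.ext ?_
    show π a * π b = π b * π a
    rw [← commutatorElement_eq_one_iff_mul_comm, ← map_commutatorElement]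
    exact (hπ _).2 (habel a ha b hb)⟩⟩
  -- conjugacy in `V`
  have hVconj : ∀ u ∈ V, u ≠ 1 → ∀ v ∈ V, v ≠ 1 → ∃ x : G, π x * u * (π x)⁻¹ = v := by
    rintro _ ⟨a, ha, rfl⟩ hu _ ⟨b, hb, rfl⟩ hv
    obtain ⟨x, hx⟩ := isConj_iff.1 (hconj a ha (fun h => hu ((hπ a).2 h)) b hb fun h => hv ((hπ b).2 h))
    exact ⟨x, by rw [← map_inv, ← map_mul, ← map_mul, hx]⟩
  have hAV : ∀ x ∈ A, ∀ u ∈ V, π x * u = u * π x := fun x hx u hu =>
    congrArg Subtype.val (hVc.is_comm.comm (⟨π x, (hVmem x).2 hx⟩ : V) ⟨u, hu⟩)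
  -- the stabiliser of a nonidentity element of `V` fixes all of `V`
  have hstab : ∀ x, ∀ u ∈ V, u ≠ 1 → π x * u = u * π x → ∀ v ∈ V, π x * v = v * π x := by
    intro x u hu hu1 hxu v hv
    rcases eq_or_ne v 1 with rfl | hv1
    · simp
    obtain ⟨y, rfl⟩ := hVconj u hu hu1 v hv hv1
    have hc : π ⁅x, y⁆ * (π y * u * (π y)⁻¹) = (π y * u * (π y)⁻¹) * π ⁅x, y⁆ :=
      hAV _ (hcomm x y) _ hv
    have e : π x * (π y * u * (π y)⁻¹) * (π x)⁻¹ =
        π ⁅x, y⁆ * (π y * u * (π y)⁻¹) * (π ⁅x, y⁆)⁻¹ := by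
      have h1 : π x * u * (π x)⁻¹ = u := mul_inv_eq_iff_eq_mul.2 hxu
      calc π x * (π y * u * (π y)⁻¹) * (π x)⁻¹
          = ⁅π x, π y⁆ * (π y * (π x * u * (π x)⁻¹) * (π y)⁻¹) * ⁅π x, π y⁆⁻¹ := by
            rw [commutatorElement_def]; group
        _ = _ := by rw [h1, map_commutatorElement]
    rw [hc, mul_inv_cancel_right] at e
    exact mul_inv_eq_iff_eq_mul.1 e
  -- such an element lies in `A`
  have hnotcentral : ∃ y, ∃ u ∈ V, π y * u ≠ u * π y := by
    by_contra h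
    push Not at h
    obtain ⟨b, hbA, hbK, hb⟩ := hbig
    obtain ⟨x, hx⟩ := hVconj (π g) ((hVmem g).2 hgA) (fun h => hgK ((hπ g).1 h)) (π b)
      ((hVmem b).2 hbA) fun h => hbK ((hπ b).1 h)
    rw [h x _ ((hVmem g).2 hgA), mul_inv_cancel_right] at hx
    exact hb ((hπ _).1 (by rw [map_mul, map_inv, hx, inv_mul_cancel]))
  have hfix : ∀ x, (∃ u ∈ V, u ≠ 1 ∧ π x * u = u * π x) → x ∈ A := by
    rintro d ⟨u, hu, hu1, hdu⟩
    obtain ⟨y, w, hw, hyw⟩ := hnotcentral
    -- `u ↦ [y, u]` is onto `V`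
    have hmem : ∀ v ∈ V, ⁅π y, v⁆ ∈ V := fun v hv => by
      rw [commutatorElement_def]
      exact mul_mem (hVn.conj_mem v hv _) (inv_mem hv)
    let f : V → V := fun v => ⟨⁅π y, (v : G ⧸ K)⁆, hmem v v.2⟩
    have hinj : Function.Injective f := fun a b h => by
      have h' : ⁅π y, (a : G ⧸ K)⁆ = ⁅π y, (b : G ⧸ K)⁆ := congrArg Subtype.val h
      apply Subtype.ext
      by_contra hab
      refine hyw (hstab y ((b : G ⧸ K)⁻¹ * a) (mul_mem (inv_mem b.2) a.2)
        (fun e => hab (inv_mul_eq_one.1 e).symm) ?_ w hw)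
      have e1 : (π y * (b : G ⧸ K) * (π y)⁻¹)⁻¹ * (π y * a * (π y)⁻¹) = (b : G ⧸ K)⁻¹ * a := by
        have e2 : π y * (a : G ⧸ K) * (π y)⁻¹ = ⁅π y, (a : G ⧸ K)⁆ * a := by
          rw [commutatorElement_def]; group
        have e3 : π y * (b : G ⧸ K) * (π y)⁻¹ = ⁅π y, (b : G ⧸ K)⁆ * b := by
          rw [commutatorElement_def]; group
        rw [e2, e3, h', mul_inv_rev]; group
      rw [← mul_inv_eq_iff_eq_mul]
      conv_rhs => rw [← e1]
      group
    obtain ⟨⟨a, ha⟩, hfa⟩ := Finite.surjective_of_injective hinj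
      ⟨⁅π y, π d⁆, by rw [← map_commutatorElement]; exact (hVmem _).2 (hcomm y d)⟩
    obtain ⟨a', ha', rfl⟩ := ha
    have hya : ⁅π y, π a'⁆ = ⁅π y, π d⁆ := congrArg Subtype.val hfa
    have hdV : ∀ v ∈ V, π d * v = v * π d := hstab d u hu hu1 hdu
    set d' := d * a'⁻¹
    have hd'V : ∀ v ∈ V, π d' * v = v * π d' := fun v hv => by
      rw [map_mul, mul_assoc, hAV _ (inv_mem ha') v hv, ← mul_assoc, hdV v hv, mul_assoc]
    have hyd' : π y * π d' * (π y)⁻¹ = π d' := by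
      have h1 : π y * π d * (π y)⁻¹ = ⁅π y, π d⁆ * π d := by rw [commutatorElement_def]; group
      have h2 : π y * (π a')⁻¹ * (π y)⁻¹ = (π a')⁻¹ * ⁅π y, π a'⁆⁻¹ := by
        rw [commutatorElement_def]; group
      calc π y * π d' * (π y)⁻¹ = (π y * π d * (π y)⁻¹) * (π y * (π a')⁻¹ * (π y)⁻¹) := by
            rw [map_mul, map_inv]; group
        _ = ⁅π y, π d⁆ * π d * ((π a')⁻¹ * ⁅π y, π d⁆⁻¹) := by rw [h1, h2, hya]
        _ = ⁅π y, π d⁆ * (π d' * ⁅π y, π d⁆⁻¹) := by rw [map_mul, map_inv]; group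
        _ = π d' := by
            rw [hd'V _ (inv_mem (hya ▸ hmem _ ((hVmem a').2 ha'))), mul_inv_cancel_left]
    have hd'c : ∀ x, ⁅d', x⁆ ∈ K := by
      intro x
      rw [← hπ, map_commutatorElement]
      have hcV : ⁅π d', π x⁆ ∈ V := by rw [← map_commutatorElement]; exact (hVmem _).2 (hcomm _ _)
      by_contra hc
      refine hyw (hstab y _ hcV hc ?_ w hw)
      rw [← mul_inv_eq_iff_eq_mul]
      have hyx : π y * π x * (π y)⁻¹ = ⁅π y, π x⁆ * π x := by rw [commutatorElement_def]; group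
      have hz : ⁅π y, π x⁆ ∈ V := by rw [← map_commutatorElement]; exact (hVmem _).2 (hcomm _ _)
      calc π y * ⁅π d', π x⁆ * (π y)⁻¹
          = ⁅π y * π d' * (π y)⁻¹, π y * π x * (π y)⁻¹⁆ := by
            simp only [commutatorElement_def]; group
        _ = ⁅π d', ⁅π y, π x⁆ * π x⁆ := by rw [hyd', hyx]
        _ = ⁅π d', ⁅π y, π x⁆⁆ * (⁅π y, π x⁆ * ⁅π d', π x⁆ * ⁅π y, π x⁆⁻¹) := by
            simp only [commutatorElement_def]; group
        _ = ⁅π d', π x⁆ := by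
            rw [commutatorElement_eq_one_iff_mul_comm.2 (hd'V _ hz), one_mul,
              show ⁅π y, π x⁆ * ⁅π d', π x⁆ = ⁅π d', π x⁆ * ⁅π y, π x⁆ from
                congrArg Subtype.val (hVc.is_comm.comm (⟨_, hz⟩ : V) ⟨_, hcV⟩),
              mul_inv_cancel_right]
    have hd' : d' ∈ A := by
      by_contra h
      obtain ⟨x, hx⟩ := hcent d' h
      exact hx (hd'c x)
    simpa [d'] using mul_mem hd' ha'
  -- `G / A` has order `q - 1`
  have hgu : π g ∈ V ∧ π g ≠ 1 := ⟨(hVmem g).2 hgA, fun h => hgK ((hπ g).1 h)⟩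
  have hcentV : centralizer ({π g} : Set (G ⧸ K)) = V := by
    ext u
    obtain ⟨x, rfl⟩ := QuotientGroup.mk'_surjective K u
    rw [mem_centralizer_singleton_iff]
    exact ⟨fun h => (hVmem x).2 (hfix x ⟨_, hgu.1, hgu.2, h⟩),
      fun h => hAV x ((hVmem x).1 h) _ hgu.1⟩
  have hVindex : V.index = Nat.card V - 1 := by
    rw [← SetLike.coe_sort_coe, Nat.card_coe_set_eq, ← hcentV, ← PrimeParts.ncard_carrier, hcentV,
      ← Set.ncard_sdiff_singleton_of_mem (one_mem V)]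
    congr 1
    ext v
    rw [ConjClasses.mem_carrier_iff_mk_eq, ConjClasses.mk_eq_mk_iff_isConj, isConj_comm,
      Set.mem_sdiff, Set.mem_singleton_iff, SetLike.mem_coe, isConj_iff]
    constructor
    · rintro ⟨c, rfl⟩
      exact ⟨hVn.conj_mem _ hgu.1 c, fun h => hgu.2 (conj_eq_one_iff.1 h)⟩
    · rintro ⟨hv, hv1⟩
      obtain ⟨x, hx⟩ := hVconj _ hgu.1 hgu.2 v hv hv1
      exact ⟨π x, hx⟩
  have hCA : ∀ x ∈ A, x ∉ K → Nat.card (centralizer ({x} : Set G)) = Nat.card V := by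
    intro x hx hxK
    have h := hcard x hx hxK
    have h2 := V.card_mul_index
    rw [hVindex] at h2
    have hpos : 0 < Nat.card V - 1 := by
      rw [← hVindex]; exact Nat.pos_of_ne_zero FiniteIndex.index_ne_zero
    exact Nat.eq_of_mul_eq_mul_right hpos (h.trans h2.symm)
  have hVp : IsPGroup p V := by
    rintro ⟨_, a, ha, rfl⟩
    exact ⟨1, Subtype.ext (by
      show π a ^ p ^ 1 = 1
      rw [pow_one, ← map_pow, hπ]; exact hexp a ha)⟩
  obtain ⟨e, he⟩ := hVp.exists_card_eq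
  have hKrel : K.relIndex A = Nat.card V := by
    have h := relIndex_ker (K := A) π
    rwa [QuotientGroup.ker_mk'] at h
  -- the Sylow subgroup of `A`
  obtain ⟨S₀⟩ : Nonempty (Sylow p A) := inferInstance
  set Q := (S₀ : Subgroup A).map A.subtype with hQdef
  have hQA : Q ≤ A := map_subtype_le _
  have hQp : IsPGroup p Q := S₀.2.map _
  set T := Q ⊓ K
  have hQK : Q ⊔ K = A := by
    refine le_antisymm (sup_le hQA hKA) (relIndex_eq_one.1 ?_)
    have h1 : (Q ⊔ K).relIndex A ∣ p ^ e := he ▸ hKrel ▸ relIndex_dvd_of_le_left A le_sup_right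
    have h2 : (Q ⊔ K).relIndex A ∣ (S₀ : Subgroup A).index := by
      have h3 : Q.relIndex A = (S₀ : Subgroup A).index := by
        rw [relIndex, hQdef, subgroupOf, comap_map_eq_self_of_injective A.subtype_injective]
      exact h3 ▸ relIndex_dvd_of_le_left A le_sup_left
    obtain ⟨j, -, hj⟩ := (Nat.dvd_prime_pow hp.out).1 h1
    rcases j with _ | j
    · exact hj
    · exact absurd ((Dvd.intro_left _ (pow_succ p j).symm).trans (hj ▸ h2)) S₀.not_dvd_index
  have hQcard : Nat.card Q = Nat.card V * Nat.card T := by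
    have h := relIndex_sup_right (H := Q) (K := K)
    rw [hQK, hKrel] at h
    rw [h, ← relIndex_bot_left, ← relIndex_bot_left T, mul_comm, show T = Q ⊓ K from rfl, inf_comm,
      ← inf_relIndex_right K Q]
    exact (relIndex_mul_relIndex _ _ _ bot_le inf_le_right).symm
  -- `T` is the derived subgroup of `Q`
  set Ts := T.subgroupOf Q
  have hTs : ∀ u : Q, u ∈ Ts ↔ (u : G) ∈ K := fun u => ⟨fun h => h.2, fun h => ⟨u.2, h⟩⟩
  obtain ⟨x₀, hx₀Q, hx₀K⟩ : ∃ x ∈ Q, x ∉ K := by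
    by_contra h
    push Not at h
    exact hgK (le_antisymm hKA (hQK ▸ sup_le h le_rfl) ▸ hgA)
  have hgam1 : gam Q 1 = Ts := by
    show ⁅(⊤ : Subgroup Q), (⊤ : Subgroup Q)⁆ = Ts
    refine le_antisymm (Subgroup.commutator_le.2 fun u _ v _ =>
      (hTs _).2 (habel _ (hQA u.2) _ (hQA v.2))) fun t ht => ?_
    obtain ⟨u, hu, hut⟩ := exists_conj_eq_mul Q T x₀ (fun u hu =>
      mem_inf.2 ⟨mul_mem (inv_mem hx₀Q) (mul_mem (mul_mem hu hx₀Q) (inv_mem hu)), (hπ _).1 (by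
        rw [map_mul, map_mul, map_mul, hAV u (hQA hu) _ ((hVmem _).2 (hQA hx₀Q)), map_inv, map_inv]
        group)⟩)
      (by
        rw [hQcard]
        refine Nat.mul_le_mul_right _ ?_
        rw [← hCA x₀ (hQA hx₀Q) hx₀K]
        exact card_le_of_le inf_le_right) (mem_inf.2 ⟨t.2, (hTs t).1 ht⟩ : (t : G) ∈ T)
    have e' : t = ⁅(⟨x₀, hx₀Q⟩ : Q)⁻¹, ⟨u, hu⟩⁆ := by
      apply Subtype.ext
      show (t : G) = x₀⁻¹ * u * x₀⁻¹⁻¹ * u⁻¹
      rw [inv_inv, mul_assoc, mul_assoc, ← mul_assoc u, hut, inv_mul_cancel_left]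
    rw [e']
    exact commutator_mem_commutator (mem_top _) (mem_top _)
  haveI hTsn : Ts.Normal := hgam1 ▸ inferInstance
  -- a Singer automorphism
  have hcopV : (Nat.card V).Coprime V.index := by
    rw [hVindex]
    obtain ⟨v, hv⟩ : ∃ v, Nat.card V = v + 1 := ⟨_, (Nat.succ_pred_eq_of_pos Nat.card_pos).symm⟩
    rw [hv, Nat.add_sub_cancel]
    exact Nat.coprime_self_add_left.2 (Nat.coprime_one_left v) |> fun h => by
      rwa [add_comm] at h ⊢
  obtain ⟨H, hH⟩ := exists_right_complement'_of_coprime hcopV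
  have hHc : IsMulCommutative H := ⟨⟨fun a b => by
    apply Subtype.ext
    obtain ⟨x, hx⟩ := QuotientGroup.mk'_surjective K (a : G ⧸ K)
    obtain ⟨z, hz⟩ := QuotientGroup.mk'_surjective K (b : G ⧸ K)
    show (a : G ⧸ K) * b = b * a
    rw [← commutatorElement_eq_one_iff_mul_comm]
    refine (disjoint_iff_inf_le.1 hH.disjoint (mem_inf.2 ⟨?_, (⁅a, b⁆ : H).2⟩) :
      ⁅(a : G ⧸ K), (b : G ⧸ K)⁆ ∈ (⊥ : Subgroup (G ⧸ K)))
    show ⁅(a : G ⧸ K), (b : G ⧸ K)⁆ ∈ V
    rw [← hx, ← hz, ← map_commutatorElement]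
    exact (hVmem _).2 (hcomm _ _)⟩⟩
  have hVne : V ≠ ⊥ := fun h => hgu.2 (mem_bot.1 (h ▸ hgu.1))
  haveI hcyc : IsCyclic H := Cfsg.Agent.S0041.result H V hVne
    (le_top.trans (normalizer_eq_top_iff.2 hVn).ge) (fun a ha ha1 => by
      rw [eq_bot_iff]
      rintro v ⟨hv, hva⟩
      rw [mem_bot]
      by_contra hv1
      obtain ⟨x, rfl⟩ := QuotientGroup.mk'_surjective K a
      have hx := (hVmem x).2 (hfix x ⟨v, hv, hv1, (mem_centralizer_singleton_iff.1 hva).symm⟩)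
      exact ha1 (disjoint_iff_inf_le.1 hH.disjoint ⟨hx, ha⟩ : _ ∈ (⊥ : Subgroup (G ⧸ K))))
    (Or.inl hHc)
  obtain ⟨⟨h₀, hh₀⟩, hgen⟩ := IsCyclic.exists_generator (α := H)
  obtain ⟨x₁, rfl⟩ := QuotientGroup.mk'_surjective K h₀
  have hFrat := Sylow.normalizer_sup_eq_top S₀
  rw [← hQdef] at hFrat
  obtain ⟨n, hn, a₁, ha₁, rfl⟩ := mem_sup_of_normal_right.1 (hFrat ▸ mem_top x₁)
  let α : MulAut Q := Q.normalizerMonoidHom ⟨n, hn⟩
  have hαk : ∀ (k : ℕ) (u : Q), (((α ^ k) u : Q) : G) = n ^ k * u * (n ^ k)⁻¹ := fun k u => by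
    rw [← map_pow]; rfl
  have hact : ∀ (k : ℕ), ∀ v ∈ V, π (n * a₁) ^ k * v * (π (n * a₁) ^ k)⁻¹ =
      π n ^ k * v * (π n ^ k)⁻¹ := by
    intro k
    induction k with
    | zero => intro v _; simp
    | succ k ih =>
      intro v hv
      have h1 : π (n * a₁) * v * (π (n * a₁))⁻¹ = π n * v * (π n)⁻¹ := by
        rw [map_mul, mul_assoc (π n), hAV a₁ ha₁ v hv, ← mul_assoc (π n)]; group
      rw [pow_succ, pow_succ, mul_inv_rev, mul_inv_rev]
      calc π (n * a₁) ^ k * π (n * a₁) * v * ((π (n * a₁))⁻¹ * (π (n * a₁) ^ k)⁻¹)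
          = π (n * a₁) ^ k * (π (n * a₁) * v * (π (n * a₁))⁻¹) * (π (n * a₁) ^ k)⁻¹ := by group
        _ = π n ^ k * (π n * v * (π n)⁻¹) * (π n ^ k)⁻¹ := by
          rw [h1, ih _ (hVn.conj_mem v hv _)]
        _ = _ := by group
  have htrans : ∀ u w : Q, u ∉ gam Q 1 → w ∉ gam Q 1 → ∃ k : ℕ, ((α ^ k) u)⁻¹ * w ∈ gam Q 1 := by
    intro u w hu hw
    rw [hgam1, hTs] at hu hw
    obtain ⟨c, hc⟩ := hVconj (π u) ((hVmem _).2 (hQA u.2)) (fun h => hu ((hπ _).1 h)) (π w)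
      ((hVmem _).2 (hQA w.2)) fun h => hw ((hπ _).1 h)
    obtain ⟨⟨⟨v, hv⟩, ⟨h, hh⟩⟩, hvh⟩ := hH.2 (π c)
    change v * h = π c at hvh
    obtain ⟨k, hk⟩ := mem_powers_iff_mem_zpowers.2 (hgen ⟨h, hh⟩)
    have hk' : π (n * a₁) ^ k = h := congrArg Subtype.val hk
    refine ⟨k, ?_⟩
    rw [hgam1, hTs]
    show ((((α ^ k) u : Q) : G))⁻¹ * w ∈ K
    rw [hαk, ← hπ, map_mul, map_inv, inv_mul_eq_one, map_mul, map_mul, map_inv, map_pow,
      ← hact k _ ((hVmem _).2 (hQA u.2)), hk', ← hc, ← hvh]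
    have hm : h * π (u : G) * h⁻¹ ∈ V := hVn.conj_mem _ ((hVmem _).2 (hQA u.2)) h
    rw [mul_inv_rev]
    calc h * π (u : G) * h⁻¹ = v * (h * π (u : G) * h⁻¹) * v⁻¹ := by
          rw [show v * (h * π (u : G) * h⁻¹) = (h * π (u : G) * h⁻¹) * v from
            congrArg Subtype.val (hVc.is_comm.comm (⟨v, hv⟩ : V) ⟨_, hm⟩), mul_inv_cancel_right]
      _ = _ := by group
  have hTexp : ∀ u : Q, u ^ p ∈ gam Q 1 := fun u => by
    rw [hgam1, hTs, SubmonoidClass.coe_pow]; exact hexp _ (hQA u.2)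
  have hidx : (gam Q 1).index = Nat.card V := by
    rw [hgam1]
    have h := Ts.card_mul_index
    rw [Nat.card_congr (subgroupOfEquivOfLe (inf_le_left : T ≤ Q)).toEquiv, hQcard, mul_comm (Nat.card V)] at h
    exact Nat.eq_of_mul_eq_mul_left Nat.card_pos h
  have hx₀Ts : (⟨x₀, hx₀Q⟩ : Q) ∉ gam Q 1 := by rw [hgam1, hTs]; exact hx₀K
  have hcentQ : Nat.card (centralizer ({(⟨x₀, hx₀Q⟩ : Q)} : Set Q)) ≤ (gam Q 1).index := by
    rw [hidx, ← hCA x₀ (hQA hx₀Q) hx₀K, ← card_map_of_injective Q.subtype_injective]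
    refine card_le_of_le ?_
    rintro _ ⟨u, hu, rfl⟩
    exact mem_centralizer_singleton_iff.2
      (congrArg Subtype.val (mem_centralizer_singleton_iff.1 hu))
  have hclass := gam_two_eq_bot hQp α hTexp htrans _ hx₀Ts hcentQ
  have hcentral : ∀ t ∈ gam Q 1, ∀ u : Q, t * u = u * t := fun t ht u => by
    rw [← commutatorElement_eq_one_iff_mul_comm, ← mem_bot, ← hclass]
    exact comm_mem_gam Q (i := 1) (j := 0) (k := 2) (by omega) ht (mem_top u)
  have hexpT : ∀ t ∈ gam Q 1, t ^ p = 1 := by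
    intro t ht
    change t ∈ ⁅(⊤ : Subgroup Q), (⊤ : Subgroup Q)⁆ at ht
    rw [Subgroup.commutator_def] at ht
    suffices t ^ p = 1 ∧ t ∈ gam Q 1 from this.1
    induction ht using closure_induction with
    | mem t ht =>
      obtain ⟨u, -, v, -, rfl⟩ := ht
      have hmem : ⁅u, v⁆ ∈ gam Q 1 := comm_mem_gam Q (i := 0) (j := 0) (k := 1) (by omega)
        (mem_top u) (mem_top v)
      refine ⟨?_, hmem⟩
      rw [← commutatorElement_pow_left (fun z => hcentral _ hmem z),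
        commutatorElement_eq_one_iff_mul_comm]
      exact hcentral _ (hTexp u) v
    | one => exact ⟨one_pow p, one_mem _⟩
    | mul a b _ _ iha ihb =>
      refine ⟨?_, mul_mem iha.2 ihb.2⟩
      rw [(show Commute a b from hcentral a iha.2 b).mul_pow, iha.1, ihb.1, one_mul]
    | inv a _ iha => exact ⟨by rw [inv_pow, iha.1, inv_one], inv_mem iha.2⟩
  -- the complement
  have hTate : Cfsg.HasNormalPComplement p (K.subgroupOf A) := by
    refine Transfer.hasNormalPComplement_normal_of_le_frattini S₀ (K.subgroupOf A) fun t ht => ?_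
    have htQ : (t : G) ∈ Q := ⟨t, ht.2, rfl⟩
    have hfr : (⟨(t : G), htQ⟩ : Q) ∈ frattini Q := PGroup.commutator_le_frattini hQp (by
      show _ ∈ ⁅(⊤ : Subgroup Q), (⊤ : Subgroup Q)⁆
      exact (hgam1.ge : Ts ≤ gam Q 1) ((hTs _).2 ht.1))
    let ε : (S₀ : Subgroup A) ≃* Q :=
      (S₀ : Subgroup A).equivMapOfInjective A.subtype A.subtype_injective
    refine ⟨⟨t, ht.2⟩, ?_, rfl⟩
    have hε : ε ⟨t, ht.2⟩ = ⟨(t : G), htQ⟩ := rfl
    have h := frattini_le_comap_frattini_of_surjective (φ := ε.symm.toMonoidHom) ε.symm.surjective hfr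
    rw [← hε] at h
    simpa using h
  obtain ⟨M₀, hM₀n, hM₀K, hM₀cop, k, hk⟩ := exists_complement (K.subgroupOf A) hTate
  have hA₀card : Nat.card A = Nat.card M₀ * p ^ (k + e) := by
    rw [← Subgroup.card_mul_index (K.subgroupOf A), hk, pow_add, mul_assoc]
    exact congrArg (fun z => _ * (_ * z)) (hKrel.trans he)
  set M := M₀.map A.subtype
  have hMmem : ∀ a : A, a ∈ M₀ ↔ (orderOf a).Coprime p := by
    intro a
    refine ⟨fun ha => ?_, fun ha => ?_⟩
    · have := orderOf_dvd_natCard (⟨a, ha⟩ : M₀)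
      rw [orderOf_mk] at this
      exact hM₀cop.coprime_dvd_left this
    · rw [← QuotientGroup.eq_one_iff, ← orderOf_eq_one_iff]
      refine Nat.eq_one_of_dvd_coprimes (ha.pow_right (k + e))
        (orderOf_map_dvd (QuotientGroup.mk' M₀) a) ?_
      have h1 := Subgroup.card_eq_card_quotient_mul_card_subgroup M₀
      rw [hA₀card, mul_comm (Nat.card M₀)] at h1
      rw [Nat.eq_of_mul_eq_mul_right Nat.card_pos h1]
      exact orderOf_dvd_natCard _
  haveI hMn : M.Normal := ⟨by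
    rintro _ ⟨a, ha, rfl⟩ z
    refine ⟨⟨z * a * z⁻¹, (inferInstance : A.Normal).conj_mem a a.2 z⟩, ?_, rfl⟩
    rw [SetLike.mem_coe, hMmem] at ha ⊢
    rw [← Subgroup.orderOf_coe]
    show (orderOf (MulAut.conj z (a : G))).Coprime p
    rwa [MulEquiv.orderOf_eq, Subgroup.orderOf_coe]⟩
  have hMcop : (Nat.card M).Coprime p := by rwa [card_map_of_injective A.subtype_injective]
  let φ : Q →* MulAut M := MulAut.conjNormal.comp Q.subtype
  have hfpf : ∀ u ∉ Ts, ∀ m, φ u m = m → m = 1 := by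
    intro u hu m hm
    have h1 : (m : G) ∈ centralizer ({(u : G)} : Set G) := by
      have h := congrArg Subtype.val hm
      rw [MonoidHom.comp_apply, MulAut.conjNormal_apply, mul_inv_eq_iff_eq_mul] at h
      exact mem_centralizer_singleton_iff.2 h.symm
    apply Subtype.ext
    rw [OneMemClass.coe_one, ← orderOf_eq_one_iff]
    have hd1 := orderOf_dvd_natCard (⟨(m : G), h1⟩ : centralizer ({(u : G)} : Set G))
    rw [orderOf_mk, hCA _ (hQA u.2) (fun h => hu ((hTs u).2 h)), he] at hd1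
    exact Nat.eq_one_of_dvd_coprimes (hMcop.pow_right e) (orderOf_coe m ▸ orderOf_dvd_natCard m) hd1
  -- an element of order `p` without fixed points
  obtain ⟨w, hwp, hw⟩ : ∃ w : Q, w ^ p = 1 ∧ ∀ m, φ w m = m → m = 1 := by
    by_cases hcy : ∃ u, Ts ⊔ zpowers u = ⊤
    · obtain ⟨u, hu⟩ := hcy
      have htop : zpowers u = (⊤ : Subgroup Q) := frattini_nongenerating (eq_top_iff.2 (by
        rw [← hu]
        refine sup_le (le_trans ?_ le_sup_right) le_sup_left
        exact hgam1 ▸ PGroup.commutator_le_frattini hQp))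
      have hab : ∀ a b : Q, a * b = b * a := fun a b => by
        obtain ⟨i, rfl⟩ := mem_zpowers_iff.1 (htop ▸ mem_top a : a ∈ zpowers u)
        obtain ⟨j, rfl⟩ := mem_zpowers_iff.1 (htop ▸ mem_top b : b ∈ zpowers u)
        exact zpow_mul_comm u i j
      refine ⟨⟨x₀, hx₀Q⟩, ?_, hfpf _ (hgam1 ▸ hx₀Ts)⟩
      have hbot : gam Q 1 ≤ ⊥ := Subgroup.commutator_le.2 fun a _ b _ =>
        mem_bot.2 (commutatorElement_eq_one_iff_mul_comm.2 (hab a b))
      exact mem_bot.1 (hbot (hTexp _))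
    · push Not at hcy
      refine ⟨(⟨x₀, hx₀Q⟩ : Q) ^ p, hexpT _ (hTexp _), ?_⟩
      obtain ⟨l, hl⟩ := hQp.exists_card_eq
      exact apply_pow_eq_one (Nat.card Q) Q le_rfl hQp M φ
        (by rw [hl]; exact (hMcop.symm).pow_left l) Ts
        (fun u => hgam1 ▸ hTexp u)
        (fun u v => hgam1 ▸ comm_mem_gam Q (i := 0) (j := 0) (k := 1) (by omega) (mem_top u)
          (mem_top v)) hcy hfpf _ (hgam1 ▸ hx₀Ts)
  haveI hMsol : Group.IsSolvable M := by
    haveI := PComplement.isNilpotent_of_fpf (p := p) M (φ w) (by rw [← map_pow, hwp, map_one]) hw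
    infer_instance
  haveI hAsol : Group.IsSolvable A := by
    haveI : Group.IsSolvable M₀ := Group.isSolvable_of_surjective
      (f := (M₀.equivMapOfInjective A.subtype A.subtype_injective).symm.toMonoidHom)
      (MulEquiv.surjective _)
    have h2 : IsPGroup p (A ⧸ M₀) := by
      refine IsPGroup.of_card (n := k + e) ?_
      have h1 := Subgroup.card_eq_card_quotient_mul_card_subgroup M₀
      rw [hA₀card, mul_comm (Nat.card M₀)] at h1
      exact (Nat.eq_of_mul_eq_mul_right Nat.card_pos h1).symm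
    haveI := h2.isNilpotent
    exact (Group.isSolvable_iff_subgroup_quotient M₀).2 ⟨inferInstance, inferInstance⟩
  haveI : Group.IsSolvable (G ⧸ A) := Group.isSolvable_of_comm fun a b => by
    obtain ⟨a, rfl⟩ := QuotientGroup.mk'_surjective A a
    obtain ⟨b, rfl⟩ := QuotientGroup.mk'_surjective A b
    rw [← commutatorElement_eq_one_iff_mul_comm, ← map_commutatorElement]
    exact (QuotientGroup.eq_one_iff _).2 (hcomm a b)
  exact (Group.isSolvable_iff_subgroup_quotient A).2 ⟨hAsol, inferInstance⟩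

end Cfsg.Agent.OneNonlinear
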