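import Mathlib.GroupTheory.FixedPointFree
import Mathlib.GroupTheory.Sylow
import Mathlib.GroupTheory.Solvable
import Mathlib.GroupTheory.Nilpotent
import Mathlib.GroupTheory.NoncommPiCoprod
import Mathlib.GroupTheory.Archimedean
import Mathlib.RingTheory.Coprime.Lemmas
import Mathlib.RingTheory.Int.Basic
import Cfsg.Agent.Lib.Coprime.Basic

/-!
# Fixed-point-free automorphisms of order four: solvability

`isSolvable_of_fpf_four`: a finite group `M` with an automorphism `σ`, `σ ^ 4 = 1`, fixing only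
`1` is solvable.  With `τ = σ²`, every element inverted by `τ` commutes with its image, so its
primary parts lie in the invariant Sylow subgroups; counting shows that these parts commute.
-/

namespace Cfsg.Agent.OneNonlinear

open Subgroup
open scoped Pointwise

set_option linter.style.haveILetI false
set_option linter.unusedSectionVars false

universe u

variable {M : Type u} [Group M] [Finite M] (σ : MulAut M)

/-- The restriction of an automorphism to an invariant subgroup, as an endomorphism. -/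
def endRestrict (H : Subgroup M) (h : ∀ x ∈ H, σ x ∈ H) : H →* H :=
  MonoidHom.mk' (fun x => ⟨σ x, h x x.2⟩) fun x y => Subtype.ext (map_mul σ _ _)

theorem fpf_endRestrict (hfpf : ∀ g, σ g = g → g = 1) (H : Subgroup M) (h : ∀ x ∈ H, σ x ∈ H) :
    MonoidHom.FixedPointFree (endRestrict σ H h) := fun x hx =>
  Subtype.ext (hfpf x (congrArg Subtype.val hx))

theorem map_eq_of_apply_mem (H : Subgroup M) (h : ∀ x ∈ H, σ x ∈ H) :
    H.map (σ : M →* M) = H :=
  Subgroup.eq_of_le_of_card_ge (map_le_iff_le_comap.2 h)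
    (card_map_of_injective (f := (σ : M →* M)) σ.injective).ge

theorem exists_sylow_ge (hfpf : ∀ g, σ g = g → g = 1) {p : ℕ} [Fact p.Prime] {U : Subgroup M}
    (hU : IsPGroup p U) (hUi : ∀ x ∈ U, σ x ∈ U) :
    ∃ Q : Sylow p M, U ≤ Q ∧ ∀ x ∈ (Q : Subgroup M), σ x ∈ (Q : Subgroup M) := by
  classical
  let S := {V : Subgroup M | U ≤ V ∧ IsPGroup p V ∧ ∀ x ∈ V, σ x ∈ V}
  obtain ⟨Q, ⟨hUQ, hQp, hQi⟩, hmax⟩ :=
    Set.Finite.exists_maximalFor id S (Set.toFinite S) ⟨U, le_rfl, hU, hUi⟩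
  obtain ⟨P, hQP⟩ := hQp.exists_le_sylow
  set N := normalizer (Q : Set M)
  have hNi : ∀ x ∈ N, σ x ∈ N := by
    intro x hx
    rw [mem_normalizer_iff] at hx ⊢
    intro y
    obtain ⟨y, rfl⟩ := σ.surjective y
    have e : ∀ z, σ z ∈ Q ↔ z ∈ Q := fun z => by
      refine ⟨fun h => ?_, hQi z⟩
      rw [← map_eq_of_apply_mem σ Q hQi] at h
      obtain ⟨w, hw, he⟩ := h
      exact σ.injective he ▸ hw
    rw [← map_inv, ← map_mul, ← map_mul, e, e]
    exact hx y
  -- a Sylow subgroup of the normaliser fixed by `σ`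
  let f := endRestrict σ N hNi
  have hf : MonoidHom.FixedPointFree f := fpf_endRestrict σ hfpf N hNi
  have hfs : Function.Surjective f :=
    Finite.surjective_of_injective fun x y h => Subtype.ext (σ.injective (congrArg Subtype.val h))
  let R₀ : Sylow p N := default
  obtain ⟨a, ha⟩ := MulAction.exists_smul_eq N R₀ (R₀.mapSurjective (f := f) hfs)
  obtain ⟨c, hc⟩ := hf.commutatorMap_surjective a⁻¹
  have hce : f c = a * c := by
    rw [MonoidHom.commutatorMap_apply, div_eq_mul_inv] at hc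
    rw [← eq_inv_mul_iff_mul_eq] at hc
    rw [← inv_inv (f c), hc, mul_inv_rev, inv_inv, inv_inv]
  set R : Sylow p N := c⁻¹ • R₀
  have hR : (R : Subgroup N).map f = R := by
    show (MulAut.conj c⁻¹ • (R₀ : Subgroup N)).map f = MulAut.conj c⁻¹ • (R₀ : Subgroup N)
    rw [Coprime.map_conj_smul]
    have h2 : (R₀ : Subgroup N).map f = MulAut.conj a • (R₀ : Subgroup N) := by
      show ((R₀.mapSurjective (f := f) hfs : Sylow p N) : Subgroup N) = _
      rw [← ha]; rfl
    rw [h2, Coprime.conj_smul_smul]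
    congr 2
    rw [map_inv, hce]
    group
  set V := (R : Subgroup N).map N.subtype
  haveI hQn : (Q.subgroupOf N).Normal := Subgroup.normal_in_normalizer
  have hQR : Q.subgroupOf N ≤ R := by
    have hp : IsPGroup p (Q.subgroupOf N) := hQp.comap_subtype
    obtain ⟨T, hT⟩ := hp.exists_le_sylow
    obtain ⟨g, hg⟩ := MulAction.exists_smul_eq N T R
    rw [← hg]
    intro y hy
    show y ∈ MulAut.conj g • (T : Subgroup N)
    rw [Subgroup.mem_pointwise_smul_iff_inv_smul_mem]
    exact hT (by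
      have := hQn.conj_mem y hy g⁻¹
      simpa [MulAut.smul_def] using this)
  have hQV : Q ≤ V := fun x hx => ⟨⟨x, le_normalizer hx⟩, hQR hx, rfl⟩
  have hVS : V ∈ S := by
    refine ⟨hUQ.trans hQV, R.2.map _, ?_⟩
    rintro _ ⟨y, hy, rfl⟩
    exact ⟨f y, hR ▸ mem_map_of_mem f hy, rfl⟩
  have hVQ : V ≤ Q := hmax hVS hQV
  -- `Q` is a Sylow subgroup
  by_cases hPQ : (P : Subgroup M) ≤ Q
  · exact ⟨P, hUQ.trans hQP, fun x hx => by
      have e : (P : Subgroup M) = Q := le_antisymm hPQ hQP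
      rw [e] at hx ⊢; exact hQi x hx⟩
  exfalso
  haveI := P.2.isNilpotent
  have hlt : Q.subgroupOf (P : Subgroup M) < ⊤ :=
    lt_top_iff_ne_top.2 fun h => hPQ (subgroupOf_eq_top.1 h)
  obtain ⟨y, hy, hyn⟩ := SetLike.exists_of_lt (Group.normalizerCondition_of_isNilpotent _ hlt)
  set W := (Q.subgroupOf (P : Subgroup M) ⊔ zpowers y).map (P : Subgroup M).subtype
  have hWN : W ≤ N := by
    rw [map_le_iff_le_comap, sup_le_iff]
    refine ⟨fun z hz => le_normalizer hz, zpowers_le.2 ?_⟩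
    show (y : M) ∈ N
    rw [mem_normalizer_iff] at hy ⊢
    intro z
    constructor
    · intro hz
      exact (hy ⟨z, hQP hz⟩).1 hz
    · intro hz
      have hzP : z ∈ (P : Subgroup M) := by
        simpa [mul_assoc] using mul_mem (mul_mem (inv_mem y.2) (hQP hz)) y.2
      exact (hy ⟨z, hzP⟩).2 hz
  obtain ⟨T, hT⟩ := ((P.2.to_le (map_subtype_le _)).comap_subtype (K := N) : IsPGroup p (W.subgroupOf N)).exists_le_sylow
  obtain ⟨g, hg⟩ := MulAction.exists_smul_eq N T R
  have h1 : Nat.card W ≤ Nat.card Q :=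
    calc Nat.card W = Nat.card (W.subgroupOf N) :=
          (Nat.card_congr (subgroupOfEquivOfLe hWN).toEquiv).symm
      _ ≤ Nat.card (T : Subgroup N) := card_le_of_le hT
      _ = Nat.card (R : Subgroup N) := T.card_eq_multiplicity.trans R.card_eq_multiplicity.symm
      _ = Nat.card V := (card_map_of_injective N.subtype_injective).symm
      _ ≤ Nat.card Q := card_le_of_le hVQ
  have h2 : Q ≤ W := fun z hz => ⟨⟨z, hQP hz⟩, mem_sup_left hz, rfl⟩
  have h3 : Q = W := eq_of_le_of_card_ge h2 h1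
  exact hyn (show (y : M) ∈ Q from h3 ▸ ⟨y, mem_sup_right (mem_zpowers y), rfl⟩)

theorem sylow_unique (hfpf : ∀ g, σ g = g → g = 1) {p : ℕ} [Fact p.Prime] (P R : Sylow p M)
    (hP : ∀ x ∈ (P : Subgroup M), σ x ∈ (P : Subgroup M))
    (hR : ∀ x ∈ (R : Subgroup M), σ x ∈ (R : Subgroup M)) : P = R := by
  obtain ⟨c, rfl⟩ := MulAction.exists_smul_eq M P R
  set N := normalizer ((P : Subgroup M) : Set M)
  have hNi : ∀ x ∈ N, σ x ∈ N := by
    intro x hx
    rw [mem_normalizer_iff] at hx ⊢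
    intro y
    obtain ⟨y, rfl⟩ := σ.surjective y
    have e : ∀ z, σ z ∈ (P : Subgroup M) ↔ z ∈ (P : Subgroup M) := fun z => by
      refine ⟨fun h => ?_, hP z⟩
      rw [← map_eq_of_apply_mem σ _ hP] at h
      obtain ⟨w, hw, he⟩ := h
      exact σ.injective he ▸ hw
    rw [← map_inv, ← map_mul, ← map_mul, e, e]
    exact hx y
  have h1 : σ c • P = c • P := by
    apply Sylow.ext
    show MulAut.conj (σ c) • (P : Subgroup M) = MulAut.conj c • (P : Subgroup M)
    have hc := map_eq_of_apply_mem σ ((c • P : Sylow p M) : Subgroup M) hR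
    rw [show ((c • P : Sylow p M) : Subgroup M) = MulAut.conj c • (P : Subgroup M) from rfl,
      Coprime.map_conj_smul, map_eq_of_apply_mem σ _ hP] at hc
    exact hc
  have h2 : c⁻¹ * σ c ∈ N := by
    apply Sylow.smul_eq_iff_mem_normalizer.1
    rw [mul_smul, h1, inv_smul_smul]
  obtain ⟨n, hn⟩ := (fpf_endRestrict σ hfpf N hNi).commutatorMap_surjective ⟨c⁻¹ * σ c, h2⟩
  have hn' : (n : M) * (σ n)⁻¹ = c⁻¹ * σ c := by
    have := congrArg Subtype.val hn
    simpa [MonoidHom.commutatorMap_apply, div_eq_mul_inv, endRestrict] using this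
  have h3 : σ (c * n) = c * n := by
    rw [map_mul, ← mul_inv_eq_iff_eq_mul.1 (by rw [mul_assoc, hn', mul_inv_cancel_left] :
      c * (n : M) * (σ n)⁻¹ = σ c)]
  have hc : c = (n : M)⁻¹ := eq_inv_of_mul_eq_one_left (hfpf _ h3)
  rw [hc]
  exact (Sylow.smul_eq_iff_mem_normalizer.2 (inv_mem n.2)).symm

/-- **Gorenstein–Herstein**: solvability. -/
theorem isSolvable_of_fpf_four (hσ : σ ^ 4 = 1) (hfpf : ∀ g, σ g = g → g = 1) :
    Group.IsSolvable M := by
  classical
  set τ : MulAut M := σ ^ 2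
  have hττ : ∀ m, τ (τ m) = m := fun m => by
    rw [← MulAut.mul_apply, ← pow_add, hσ, MulAut.one_apply]
  have hτσ : ∀ m, τ m = σ (σ m) := fun m => by rw [← MulAut.mul_apply, ← sq]
  -- all orders are odd
  have hodd : ∀ m : M, Odd (orderOf m) := by
    have h2 : IsPGroup 2 (zpowers σ) := fun a => ⟨2, Subtype.ext (by
      obtain ⟨i, hi⟩ := mem_zpowers_iff.1 a.2
      show (a : MulAut M) ^ 4 = 1
      rw [← hi, ← zpow_natCast, ← zpow_mul, mul_comm, zpow_mul, zpow_natCast, hσ, one_zpow])⟩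
    have hfx : MulAction.fixedPoints (zpowers σ) M = {1} := by
      ext x
      exact ⟨fun hx => hfpf x (hx ⟨σ, mem_zpowers σ⟩), fun hx a => by
        rw [Set.mem_singleton_iff.1 hx]; exact map_one (a : MulAut M)⟩
    have hmod := h2.card_modEq_card_fixedPoints M
    rw [hfx, show Nat.card ({1} : Set M) = 1 by simp] at hmod
    exact fun m => (Nat.odd_iff.2 hmod).of_dvd_nat (orderOf_dvd_natCard m)
  have hsqrt : ∀ {a b : M}, a * a = b * b → a = b := by
    intro a b h
    obtain ⟨i, hi⟩ := hodd a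
    obtain ⟨j, hj⟩ := hodd b
    have key : ∀ (c : M) (k : ℕ), c ^ (2 * k + 1) = 1 → ∀ l : ℕ, c ^ (2 * ((2 * k + 1) * l + (k + 1))) = c := by
      intro c k hc l
      rw [show 2 * ((2 * k + 1) * l + (k + 1)) = (2 * k + 1) * (2 * l + 1) + 1 by ring, pow_succ,
        pow_mul, hc, one_pow, one_mul]
    have ha := key a i (hi ▸ pow_orderOf_eq_one a)
    have hb := key b j (hj ▸ pow_orderOf_eq_one b)
    -- a common exponent
    have he : (2 * i + 1) * j + (i + 1) = (2 * j + 1) * i + (j + 1) := by ring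
    rw [← ha j, ← hb i, he, pow_mul, pow_mul, sq, sq, h]
  -- the fixed points of `τ`
  let Y : Subgroup M := MonoidHom.eqLocus (τ : M →* M) (MonoidHom.id M)
  have hYi : ∀ y ∈ Y, σ y ∈ Y := fun y hy => by
    show τ (σ y) = σ y
    rw [hτσ, ← hτσ y, show τ y = y from hy]
  have hYinv : ∀ y ∈ Y, σ y = y⁻¹ := fun y hy => congrArg Subtype.val (congrFun
    ((fpf_endRestrict σ hfpf Y hYi).coe_eq_inv_of_involutive
      fun z => Subtype.ext ((hτσ z).symm.trans z.2)) ⟨y, hy⟩)
  have hYab : ∀ y ∈ Y, ∀ y' ∈ Y, Commute y y' := fun y hy y' hy' => congrArg Subtype.val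
    ((fpf_endRestrict σ hfpf Y hYi).commute_all_of_involutive
      (fun z => Subtype.ext ((hτσ z).symm.trans z.2)) ⟨y, hy⟩ ⟨y', hy'⟩).eq
  -- the inverted elements
  have hIcomm : ∀ a, τ a = a⁻¹ → Commute a (σ a) := by
    intro a ha
    have h := MonoidHom.FixedPointFree.prod_pow_eq_one (φ := (σ : M →* M)) (n := 4) hfpf
      (funext fun x => by
        show σ (σ (σ (σ x))) = x
        rw [← hτσ, ← hτσ, hττ]) a
    simp only [List.range_succ, List.range_zero, List.map_cons, List.map_nil,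
      List.nil_append, List.cons_append, List.prod_cons, List.prod_nil, mul_one,
      Function.iterate_succ', Function.iterate_zero, Function.comp_apply, id_eq,
      MonoidHom.coe_coe] at h
    rw [← hτσ a, ha, map_inv, ← mul_assoc, ← mul_assoc] at h
    have h1 : a * σ a * a⁻¹ = σ a := mul_inv_eq_one.1 h
    exact mul_inv_eq_iff_eq_mul.1 h1
  -- the invariant Sylow subgroups
  set n := Nat.card M
  set π := n.primeFactors
  have hSyl : ∀ p : π, ∃ Q : Sylow (p : ℕ) M,
      (∀ x ∈ (Q : Subgroup M), σ x ∈ (Q : Subgroup M)) ∧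
      ∀ U : Subgroup M, IsPGroup (p : ℕ) U → (∀ x ∈ U, σ x ∈ U) → U ≤ Q := by
    intro p
    haveI : Fact (p : ℕ).Prime := ⟨Nat.prime_of_mem_primeFactors p.2⟩
    obtain ⟨Q, -, hQ⟩ := exists_sylow_ge σ hfpf (p := (p : ℕ)) (U := ⊥) IsPGroup.of_bot
      fun x hx => by rw [mem_bot.1 hx, map_one]; exact one_mem _
    refine ⟨Q, hQ, fun U hU hUi => ?_⟩
    obtain ⟨Q', hQ', hQ'i⟩ := exists_sylow_ge σ hfpf hU hUi
    rwa [sylow_unique σ hfpf Q Q' hQ hQ'i]
  choose R hRi hRmax using hSyl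
  -- primary exponents
  let e : π → ℕ := fun p => n / (p : ℕ) ^ n.factorization p
  have he : ∀ (p : π) (m : M), ∃ k : ℕ, (m ^ e p) ^ (p : ℕ) ^ k = 1 := fun p m =>
    ⟨n.factorization p, by
      rw [← pow_mul, Nat.div_mul_cancel (Nat.ordProj_dvd n p), pow_card_eq_one']⟩
  have hgen : ∀ B : AddSubgroup ℤ, (n : ℤ) ∈ B → (∀ p : π, (e p : ℤ) ∈ B) → (1 : ℤ) ∈ B := by
    intro B hnB hB
    obtain ⟨d, rfl⟩ := Int.subgroup_cyclic B
    have hmem : ∀ z : ℤ, z ∈ AddSubgroup.closure ({d} : Set ℤ) ↔ d ∣ z := fun z => by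
      rw [AddSubgroup.mem_closure_singleton]
      exact ⟨fun ⟨k, hk⟩ => ⟨k, by rw [← hk, smul_eq_mul, mul_comm]⟩,
        fun ⟨k, hk⟩ => ⟨k, by rw [hk, smul_eq_mul, mul_comm]⟩⟩
    rw [hmem] at hnB ⊢
    rw [Int.natCast_one.symm, ← Int.natAbs_dvd, Int.natCast_dvd_natCast, Nat.dvd_one]
    by_contra hd
    obtain ⟨p, hp, hpd⟩ := Nat.exists_prime_and_dvd hd
    have hpn : p ∣ n := Int.natCast_dvd_natCast.1 ((Int.natCast_dvd.2 hpd).trans hnB)
    have hpπ : p ∈ π := Nat.mem_primeFactors.2 ⟨hp, hpn, Nat.card_pos.ne'⟩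
    have := Int.natCast_dvd_natCast.1 ((Int.natCast_dvd.2 hpd).trans ((hmem _).1 (hB ⟨p, hpπ⟩)))
    exact Nat.not_dvd_ordCompl hp Nat.card_pos.ne' this
  -- the inverted part of each Sylow subgroup
  let I := {a : M // τ a = a⁻¹}
  have hIR : ∀ (p : π) (a : M), τ a = a⁻¹ → (∃ k : ℕ, a ^ (p : ℕ) ^ k = 1) →
      a ∈ (R p : Subgroup M) := by
    intro p a ha ⟨k, hk⟩
    refine hRmax p (zpowers a ⊔ zpowers (σ a)) ?_ ?_ (mem_sup_left (mem_zpowers a))
    · have h1 : IsPGroup (p : ℕ) (zpowers a) := fun u => by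
        obtain ⟨i, hi⟩ := mem_zpowers_iff.1 u.2
        refine ⟨k, Subtype.ext ?_⟩
        show (u : M) ^ _ = 1
        rw [← hi, ← zpow_natCast, ← zpow_mul, mul_comm, zpow_mul, zpow_natCast, hk, one_zpow]
      have h2 : IsPGroup (p : ℕ) (zpowers (σ a)) := fun u => by
        obtain ⟨i, hi⟩ := mem_zpowers_iff.1 u.2
        refine ⟨k, Subtype.ext ?_⟩
        show (u : M) ^ _ = 1
        rw [← hi, ← zpow_natCast, ← zpow_mul, mul_comm, zpow_mul, zpow_natCast, ← map_pow, hk,
          map_one, one_zpow]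
      refine h1.to_sup_of_normal_right' h2 ?_
      rw [zpowers_le]
      refine centralizer_le_normalizer _ (mem_centralizer_iff.2 fun y hy => ?_)
      obtain ⟨i, rfl⟩ := mem_zpowers_iff.1 hy
      exact ((hIcomm a ha).zpow_right i).symm.eq
    · show zpowers a ⊔ zpowers (σ a) ≤ (zpowers a ⊔ zpowers (σ a)).comap (σ : M →* M)
      rw [sup_le_iff, zpowers_le, zpowers_le]
      refine ⟨mem_sup_right (mem_zpowers _), ?_⟩
      show σ (σ a) ∈ zpowers a ⊔ zpowers (σ a)
      rw [← hτσ, ha]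
      exact inv_mem (mem_sup_left (mem_zpowers a))
  let Ip : π → Type u := fun p => {a : M // τ a = a⁻¹ ∧ a ∈ (R p : Subgroup M)}
  let f : I → ∀ p, Ip p := fun i p =>
    ⟨i.1 ^ e p, by rw [map_pow, i.2, inv_pow], hIR p _ (by rw [map_pow, i.2, inv_pow]) (he p i.1)⟩
  have hf : Function.Injective f := by
    intro i j h
    apply Subtype.ext
    let B : AddSubgroup ℤ :=
      { carrier := {z | i.1 ^ z = j.1 ^ z}
        add_mem' := fun {a b} (ha : i.1 ^ a = j.1 ^ a) (hb : i.1 ^ b = j.1 ^ b) => by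
          show i.1 ^ (a + b) = j.1 ^ (a + b)
          rw [zpow_add, zpow_add, ha, hb]
        zero_mem' := by simp
        neg_mem' := fun {a} (ha : i.1 ^ a = j.1 ^ a) => by
          show i.1 ^ (-a) = j.1 ^ (-a)
          rw [zpow_neg, zpow_neg, ha] }
    have h1 := hgen B (show i.1 ^ (n : ℤ) = j.1 ^ (n : ℤ) by
        rw [zpow_natCast, zpow_natCast, pow_card_eq_one', pow_card_eq_one'])
      fun p => by
        show i.1 ^ (e p : ℤ) = j.1 ^ (e p : ℤ)
        rw [zpow_natCast, zpow_natCast]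
        exact congrArg Subtype.val (congrFun h p)
    simpa using (show i.1 ^ (1 : ℤ) = j.1 ^ (1 : ℤ) from h1)
  -- counting
  have hsplit : ∀ H : Subgroup M, (∀ x ∈ H, τ x ∈ H) →
      Nat.card H = Nat.card {a : M // a ∈ Y ∧ a ∈ H} * Nat.card {a : M // τ a = a⁻¹ ∧ a ∈ H} := by
    intro H hH
    rw [← Nat.card_prod]
    refine (Nat.card_congr (Equiv.ofBijective
      (fun ce : {a : M // a ∈ Y ∧ a ∈ H} × {a : M // τ a = a⁻¹ ∧ a ∈ H} =>
        (⟨ce.1.1 * ce.2.1, mul_mem ce.1.2.2 ce.2.2.2⟩ : H)) ⟨?_, ?_⟩)).symm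
    · rintro ⟨⟨c, hc, hcH⟩, ⟨a, ha, haH⟩⟩ ⟨⟨c', hc', hcH'⟩, ⟨a', ha', haH'⟩⟩ h
      have h1 : c * a = c' * a' := congrArg Subtype.val h
      have h2 : c * a⁻¹ = c' * a'⁻¹ := by
        have := congrArg τ h1
        rwa [map_mul, map_mul, ha, ha', show τ c = c from hc, show τ c' = c' from hc'] at this
      have h3 : a * a = a' * a' :=
        calc a * a = (c * a⁻¹)⁻¹ * (c * a) := by group
          _ = (c' * a'⁻¹)⁻¹ * (c' * a') := by rw [h1, h2]
          _ = a' * a' := by group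
      obtain rfl := hsqrt h3
      obtain rfl := mul_right_cancel h1
      rfl
    · rintro ⟨m, hm⟩
      set w := m⁻¹ * τ m with hw
      obtain ⟨j, hj⟩ := hodd w
      set d := w ^ (j + 1)
      have hdd : d * d = w := by
        rw [← pow_add, show j + 1 + (j + 1) = orderOf w + 1 by omega, pow_succ, pow_orderOf_eq_one,
          one_mul]
      have hτd : τ d = d⁻¹ := by
        rw [map_pow, hw, map_mul, map_inv, hττ, ← inv_pow, mul_inv_rev, inv_inv]
      have hwH : d ∈ H := pow_mem (mul_mem (inv_mem hm) (hH m hm)) _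
      refine ⟨⟨⟨m * d, ?_, mul_mem hm hwH⟩, ⟨d⁻¹, by rw [map_inv, hτd], inv_mem hwH⟩⟩,
        Subtype.ext (mul_inv_cancel_right m d)⟩
      show τ (m * d) = m * d
      rw [map_mul, hτd, show τ m = m * (d * d) by rw [hdd, hw, mul_inv_cancel_left], ← mul_assoc,
        mul_inv_cancel_right]
  have hRτ : ∀ p, ∀ x ∈ (R p : Subgroup M), τ x ∈ (R p : Subgroup M) := fun p x hx => by
    rw [hτσ]; exact hRi p _ (hRi p x hx)
  have hcardI : Nat.card Y * Nat.card I = n := by
    have h := hsplit ⊤ fun x _ => mem_top _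
    rw [card_top] at h
    rw [show n = _ from h]
    congr 1 <;> exact Nat.card_congr (Equiv.subtypeEquivRight fun a => by simp)
  have hn : n = (∏ p : π, Nat.card {a : M // a ∈ Y ∧ a ∈ (R p : Subgroup M)}) *
      ∏ p : π, Nat.card (Ip p) := by
    rw [← Finset.prod_mul_distrib]
    conv_lhs => rw [← Nat.prod_factorization_pow_eq_self (n := n) Nat.card_pos.ne']
    rw [Nat.prod_factorization_eq_prod_primeFactors, ← Finset.prod_attach, ← Finset.univ_eq_attach]
    refine Finset.prod_congr rfl fun p _ => ?_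
    haveI : Fact (p : ℕ).Prime := ⟨Nat.prime_of_mem_primeFactors p.2⟩
    exact (R p).card_eq_multiplicity.symm.trans (hsplit _ (hRτ p))
  have hY : Nat.card Y ∣ ∏ p : π, Nat.card {a : M // a ∈ Y ∧ a ∈ (R p : Subgroup M)} := by
    rw [Nat.dvd_iff_prime_pow_dvd_dvd]
    intro p k hp hpk
    rcases k with _ | k
    · simp
    haveI : Fact p.Prime := ⟨hp⟩
    have hpπ : p ∈ π := Nat.mem_primeFactors.2
      ⟨hp, ((dvd_pow_self p k.succ_ne_zero).trans hpk).trans Y.card_subgroup_dvd_card,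
        Nat.card_pos.ne'⟩
    let S : Sylow p Y := default
    have hS : (S : Subgroup Y).map Y.subtype ≤ Y ⊓ (R ⟨p, hpπ⟩ : Subgroup M) := by
      refine le_inf (map_subtype_le _) (hRmax ⟨p, hpπ⟩ _ (S.2.map _) ?_)
      rintro _ ⟨y, hy, rfl⟩
      exact ⟨y⁻¹, inv_mem hy, by rw [Subgroup.coe_subtype, Subgroup.coe_inv, hYinv y y.2]⟩
    have h1 : p ^ (k + 1) ∣ Nat.card (S : Subgroup Y) := by
      rw [S.card_eq_multiplicity]
      exact pow_dvd_pow p ((hp.pow_dvd_iff_le_factorization Nat.card_pos.ne').1 hpk)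
    rw [← card_map_of_injective Y.subtype_injective] at h1
    exact (h1.trans (card_dvd_of_le hS)).trans
      (Finset.dvd_prod_of_mem (fun q : π => Nat.card {a : M // a ∈ Y ∧ a ∈ (R q : Subgroup M)})
        (Finset.mem_univ (⟨p, hpπ⟩ : π)))
  have hfs : Function.Surjective f := by
    have hle : Nat.card (∀ p, Ip p) ≤ Nat.card I := by
      rw [Nat.card_pi]
      refine Nat.le_of_mul_le_mul_left ?_ (Nat.card_pos (α := Y))
      rw [hcardI, hn]
      refine Nat.mul_le_mul_right _ (Nat.le_of_dvd ?_ hY)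
      exact Finset.prod_pos fun (p : π) _ => by
        haveI : Nonempty {a : M // a ∈ Y ∧ a ∈ (R p : Subgroup M)} := ⟨⟨(1 : M), Y.one_mem, (R p : Subgroup M).one_mem⟩⟩
        exact Nat.card_pos
    have hle' := Nat.card_le_card_of_injective f hf
    exact ((Nat.bijective_iff_injective_and_card f).2 ⟨hf, le_antisymm hle' hle⟩).2
  -- parts belonging to different primes commute
  have hcross : ∀ p q : π, p ≠ q → ∀ a b : M, τ a = a⁻¹ → a ∈ (R p : Subgroup M) →
      τ b = b⁻¹ → b ∈ (R q : Subgroup M) → Commute a b := by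
    intro p q hpq a b ha haR hb hbR
    let g : ∀ r, Ip r := Function.update (Function.update (fun r => ⟨1, by simp, one_mem _⟩) p
      ⟨a, ha, haR⟩) q ⟨b, hb, hbR⟩
    obtain ⟨i, hi⟩ := hfs g
    have h1 : i.1 ^ e p = a := by
      have := congrArg Subtype.val (congrFun hi p)
      simpa [g, hpq] using this
    have h2 : i.1 ^ e q = b := by
      have := congrArg Subtype.val (congrFun hi q)
      simpa [g] using this
    rw [← h1, ← h2]
    exact (Commute.refl _).pow_pow _ _
  -- the subgroup generated by the inverted elements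
  let Qp : π → Subgroup M := fun p => closure {a | τ a = a⁻¹ ∧ a ∈ (R p : Subgroup M)}
  have hQR : ∀ p, Qp p ≤ R p := fun p => (closure_le _).2 fun a ha => ha.2
  have hQcomm : Pairwise fun p q : π => ∀ x y : M, x ∈ Qp p → y ∈ Qp q → Commute x y := by
    intro p q hpq x y hx hy
    have h1 : Qp q ≤ centralizer {a | τ a = a⁻¹ ∧ a ∈ (R p : Subgroup M)} :=
      (closure_le _).2 fun b hb => mem_centralizer_iff.2 fun a ha =>
        (hcross p q hpq a b ha.1 ha.2 hb.1 hb.2).eq
    have h2 : Qp p ≤ centralizer (Qp q : Set M) :=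
      (closure_le _).2 fun a ha => mem_centralizer_iff.2 fun b hb =>
        ((mem_centralizer_iff.1 (h1 hb)) a ha).symm
    exact ((mem_centralizer_iff.1 (h2 hx)) y hy).symm
  let Φ := Subgroup.noncommPiCoprod hQcomm
  have hΦ : Φ.range = ⨆ p, Qp p := Subgroup.noncommPiCoprod_range
  haveI : ∀ p, Group.IsNilpotent (Qp p) := fun p => by
    haveI : Fact (p : ℕ).Prime := ⟨Nat.prime_of_mem_primeFactors p.2⟩
    exact ((R p).2.to_le (hQR p)).isNilpotent
  haveI : Group.IsNilpotent (∀ p, Qp p) := Group.isNilpotent_pi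
  haveI hsolR : Group.IsSolvable Φ.range := Group.isSolvable_of_surjective Φ.rangeRestrict_surjective
  set Q := Φ.range
  have hIQ : ∀ a, τ a = a⁻¹ → a ∈ Q := by
    intro a ha
    let B : AddSubgroup ℤ :=
      { carrier := {z | a ^ z ∈ Q}
        add_mem' := fun {x y} hx hy => by
          show a ^ (x + y) ∈ Q
          rw [zpow_add]; exact mul_mem hx hy
        zero_mem' := by show a ^ (0 : ℤ) ∈ Q; rw [zpow_zero]; exact one_mem _
        neg_mem' := fun {x} hx => by
          show a ^ (-x) ∈ Q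
          rw [zpow_neg]; exact inv_mem hx }
    have h1 := hgen B (show a ^ (n : ℤ) ∈ Q by
      rw [zpow_natCast, pow_card_eq_one']; exact one_mem _) fun p => by
      show a ^ (e p : ℤ) ∈ Q
      rw [zpow_natCast, hΦ]
      exact mem_iSup_of_mem p (subset_closure (f ⟨a, ha⟩ p).2)
    simpa using (show a ^ (1 : ℤ) ∈ Q from h1)
  have hQeq : Q = closure {a | τ a = a⁻¹} :=
    le_antisymm (hΦ ▸ iSup_le fun p => (closure_le _).2 fun a ha => subset_closure ha.1)
      ((closure_le _).2 hIQ)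
  have hdec : ∀ m : M, ∃ c ∈ Y, ∃ a, τ a = a⁻¹ ∧ m = c * a := fun m => by
    obtain ⟨j, hj⟩ := hodd (m⁻¹ * τ m)
    set w := m⁻¹ * τ m with hw
    set d := w ^ (j + 1)
    have hdd : d * d = w := by
      rw [← pow_add, show j + 1 + (j + 1) = orderOf w + 1 by omega, pow_succ, pow_orderOf_eq_one,
        one_mul]
    have hτd : τ d = d⁻¹ := by
      rw [map_pow, hw, map_mul, map_inv, hττ, ← inv_pow, mul_inv_rev, inv_inv]
    refine ⟨m * d, ?_, d⁻¹, by rw [map_inv, hτd], (mul_inv_cancel_right m d).symm⟩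
    show τ (m * d) = m * d
    rw [map_mul, hτd, show τ m = m * (d * d) by rw [hdd, hw, mul_inv_cancel_left], ← mul_assoc,
      mul_inv_cancel_right]
  haveI hQn : Q.Normal := ⟨fun x hx g => by
    obtain ⟨c, hc, a, ha, rfl⟩ := hdec g
    have hcQ : ∀ y ∈ Q, c * y * c⁻¹ ∈ Q := by
      intro y hy
      have : Q ≤ Q.comap (MulAut.conj c).toMonoidHom := by
        conv_lhs => rw [hQeq]
        refine (closure_le _).2 fun b hb => hIQ _ ?_
        show τ (c * b * c⁻¹) = (c * b * c⁻¹)⁻¹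
        rw [map_mul, map_mul, map_inv, show τ c = c from hc, hb]
        group
      exact this hy
    have : c * (a * x * a⁻¹) * c⁻¹ ∈ Q :=
      hcQ _ (mul_mem (mul_mem (hIQ a ha) hx) (inv_mem (hIQ a ha)))
    simpa [mul_assoc] using this⟩
  haveI : Group.IsSolvable (M ⧸ Q) := Group.isSolvable_of_comm fun x y => by
    obtain ⟨x, rfl⟩ := QuotientGroup.mk'_surjective Q x
    obtain ⟨y, rfl⟩ := QuotientGroup.mk'_surjective Q y
    obtain ⟨c, hc, a, ha, rfl⟩ := hdec x
    obtain ⟨c', hc', a', ha', rfl⟩ := hdec y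
    have h1 : ∀ b, τ b = b⁻¹ → QuotientGroup.mk' Q b = 1 := fun b hb =>
      (QuotientGroup.eq_one_iff b).2 (hIQ b hb)
    rw [map_mul, map_mul, h1 a ha, h1 a' ha', mul_one, mul_one, ← map_mul, ← map_mul,
      (hYab c hc c' hc').eq]
  exact (Group.isSolvable_iff_subgroup_quotient Q).2 ⟨hsolR, inferInstance⟩

end Cfsg.Agent.OneNonlinear
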