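import Cfsg.Agent.Lib.OneNonlinear.Basic
import Cfsg.Agent.Lib.OneNonlinear.OrderFour
import Cfsg.Agent.Lib.Coprime.ThreeSubgroup

/-!
# The class `G' \ K`, the case `|G' : K| = 2`

`isSolvable_case_two`: the centraliser of `g` has order `|G : K|`, `G / K` is a `2`-group with
commutator subgroup and centre `G' / K` of order two; then `K` has a normal `2`-complement `M`
on which conjugation by `g` is fixed-point-free of order dividing four.
-/

namespace Cfsg.Agent.OneNonlinear

open Subgroup
open scoped commutatorElement Pointwise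

set_option linter.style.haveILetI false

variable {G : Type*} [Group G] [Finite G]

theorem isSolvable_case_two (A K : Subgroup G) [A.Normal] [K.Normal] (hA : A = commutator G)
    (g : G) (hgA : g ∈ A) (hgK : g ∉ K)
    (hA2 : ∀ a ∈ A, a ∈ K ∨ g⁻¹ * a ∈ K)
    (hcent : ∀ x, x ∉ A → ∃ y, ⁅x, y⁆ ∉ K)
    (hcard : Nat.card (centralizer ({g} : Set G)) = K.index) : Group.IsSolvable G := by
  classical
  haveI : Fact (Nat.Prime 2) := ⟨Nat.prime_two⟩
  have hcomm : ∀ x y, ⁅x, y⁆ ∈ A := fun x y => by
    rw [hA]; exact commutator_mem_commutator (mem_top x) (mem_top y)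
  have hgG : g ∈ commutator G := hA ▸ hgA
  set π := QuotientGroup.mk' K
  have hπ : ∀ x, π x = 1 ↔ x ∈ K := fun x => QuotientGroup.eq_one_iff x
  -- `π g` is a central involution
  have hgc : ∀ x, Commute (π x) (π g) := by
    intro x
    have hmem : x * g * x⁻¹ ∈ A := (inferInstance : A.Normal).conj_mem g hgA x
    rcases hA2 _ hmem with h | h
    · exact absurd ((inferInstance : K.Normal).mem_comm_iff.1 (by simpa [mul_assoc] using h))
        (fun h' => hgK (by simpa [mul_assoc] using h'))
    · have h' : π g = π x * π g * (π x)⁻¹ := by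
        rw [← map_inv, ← map_mul, ← map_mul, ← inv_mul_eq_one, ← map_inv, ← map_mul, hπ]
        exact h
      exact (mul_inv_eq_iff_eq_mul.1 h'.symm)
  have hg2 : g * g ∈ K := by
    rcases hA2 _ (mul_mem hgA hgA) with h | h
    · exact h
    · exact absurd (by simpa using h) hgK
  have hval : ∀ x y, π ⁅x, y⁆ = 1 ∨ π ⁅x, y⁆ = π g := fun x y => by
    rcases hA2 _ (hcomm x y) with h | h
    · exact Or.inl ((hπ _).2 h)
    · refine Or.inr ?_
      rw [eq_comm, ← inv_mul_eq_one, ← map_inv, ← map_mul]
      exact (hπ _).2 h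
  have hvalc : ∀ x y z, Commute ⁅π x, π y⁆ (π z) := fun x y z => by
    rw [← map_commutatorElement]
    rcases hval x y with h | h <;> rw [h]
    · exact Commute.one_left _
    · exact (hgc z).symm
  -- squares lie in `A`
  have hsq : ∀ x, x * x ∈ A := by
    intro x
    by_contra hx
    obtain ⟨y, hy⟩ := hcent _ hx
    apply hy
    have hc : ∀ z, ⁅π x, π y⁆ * z = z * ⁅π x, π y⁆ := fun z => by
      obtain ⟨z, rfl⟩ := QuotientGroup.mk'_surjective K z
      exact (hvalc x y z).eq
    rw [← hπ, map_commutatorElement, map_mul, ← sq, commutatorElement_pow_left hc,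
      ← map_commutatorElement, ← map_pow, hπ, sq]
    rcases hA2 _ (hcomm x y) with h | h
    · exact mul_mem h h
    · have : ⁅x, y⁆ * ⁅x, y⁆ = (⁅x, y⁆ * (g⁻¹ * ⁅x, y⁆) * ⁅x, y⁆⁻¹)⁻¹ * 1 *
          ((⁅x, y⁆ * (g⁻¹ * ⁅x, y⁆) * ⁅x, y⁆⁻¹) * (⁅x, y⁆ * ⁅x, y⁆)) := by group
      rw [← hπ, map_mul]
      rcases hval x y with e | e <;> rw [e]
      · exact one_mul 1
      · rw [← map_mul, hπ]; exact hg2
  have hG2 : IsPGroup 2 (G ⧸ K) := fun u => by
    obtain ⟨x, rfl⟩ := QuotientGroup.mk'_surjective K u
    refine ⟨2, ?_⟩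
    rw [show (2 : ℕ) ^ 2 = 2 * 2 from rfl, pow_mul, ← map_pow, ← map_pow, hπ, sq, sq]
    rcases hA2 _ (hsq x) with h | h
    · exact mul_mem h h
    · rw [← hπ, map_mul, show π (x * x) = π g by
        rw [eq_comm, ← inv_mul_eq_one, ← map_inv, ← map_mul]; exact (hπ _).2 h, ← map_mul, hπ]
      exact hg2
  obtain ⟨e, he⟩ := IsPGroup.iff_card.1 hG2
  rw [show Nat.card (G ⧸ K) = K.index from rfl] at he
  -- the Sylow subgroup
  set C := centralizer ({g} : Set G)
  obtain ⟨S, hCS⟩ := (IsPGroup.of_card (hcard.trans he) : IsPGroup 2 C).exists_le_sylow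
  set T := (S : Subgroup G) ⊓ K
  have hSK : (S : Subgroup G) ⊔ K = ⊤ := by
    rw [← index_eq_one]
    have h1 : ((S : Subgroup G) ⊔ K).index ∣ 2 ^ e := he ▸ index_dvd_of_le le_sup_right
    have h2 : ((S : Subgroup G) ⊔ K).index ∣ (S : Subgroup G).index := index_dvd_of_le le_sup_left
    obtain ⟨j, -, hj⟩ := (Nat.dvd_prime_pow Nat.prime_two).1 h1
    rcases j with _ | j
    · exact hj
    · refine absurd ?_ S.not_dvd_index
      exact (Dvd.intro_left _ (pow_succ 2 j).symm).trans (hj ▸ h2)
  have hlift : ∀ x, ∃ s ∈ (S : Subgroup G), π s = π x := fun x => by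
    obtain ⟨s, hs, k, hk, rfl⟩ := mem_sup_of_normal_right.1 (hSK ▸ mem_top x)
    exact ⟨s, hs, by rw [map_mul, (hπ k).2 hk, mul_one]⟩
  have hScard : Nat.card (S : Subgroup G) = K.index * Nat.card T := by
    have h := relIndex_sup_right (H := (S : Subgroup G)) (K := K)
    rw [hSK, relIndex_top_right] at h
    rw [h, ← relIndex_bot_left, ← relIndex_bot_left T, mul_comm, show T = (S : Subgroup G) ⊓ K from rfl,
      inf_comm, ← inf_relIndex_right K (S : Subgroup G)]
    exact (relIndex_mul_relIndex _ _ _ bot_le inf_le_right).symm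
  have hgC : g ∈ C := mem_centralizer_singleton_iff.2 rfl
  have hgS : g ∈ (S : Subgroup G) := hCS hgC
  have hsub : ∀ s ∈ (S : Subgroup G), g⁻¹ * (s * g * s⁻¹) ∈ T := fun s hs =>
    mem_inf.2 ⟨mul_mem (inv_mem hgS) (mul_mem (mul_mem hs hgS) (inv_mem hs)), (hπ _).1 (by
      rw [map_mul, map_mul, map_mul, (hgc s).eq, map_inv, map_inv]; group)⟩
  have hconjT : ∀ t ∈ T, ∃ s ∈ (S : Subgroup G), s * g * s⁻¹ = g * t := fun t ht =>
    exists_conj_eq_mul _ T g hsub (by
      rw [hScard, inf_of_le_right hCS, hcard]) ht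
  -- Tate
  have hTate : K ⊓ (S : Subgroup G) ≤ (frattini (S : Subgroup G)).map (S : Subgroup G).subtype := by
    intro t ht
    obtain ⟨s, hs, he⟩ := hconjT t ⟨ht.2, ht.1⟩
    refine ⟨⁅(⟨g, hgS⟩ : (S : Subgroup G))⁻¹, ⟨s, hs⟩⁆, PGroup.commutator_le_frattini S.2
      (commutator_mem_commutator (mem_top _) (mem_top _)), ?_⟩
    show g⁻¹ * s * g⁻¹⁻¹ * s⁻¹ = t
    rw [inv_inv, mul_assoc, mul_assoc, ← mul_assoc s, he, inv_mul_cancel_left]
  obtain ⟨M, hMn, hMK, hMcop, k, hk⟩ :=
    exists_complement K (Transfer.hasNormalPComplement_normal_of_le_frattini S K hTate)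
  -- `g ^ 4 = 1`
  have hg4 : g ^ 4 = 1 := by
    by_contra hg4
    have hTne : T ≠ ⊥ := fun h => hg4 (by
      have : g * g ∈ T := mem_inf.2 ⟨mul_mem hgS hgS, hg2⟩
      rw [h, mem_bot, ← sq] at this
      rw [show 4 = 2 * 2 from rfl, pow_mul, this, one_pow])
    -- some `x` in `S` has `x * x` in `g T`
    obtain ⟨x, hx, hxg⟩ : ∃ x ∈ (S : Subgroup G), g⁻¹ * (x * x) ∈ T := by
      by_contra hall
      push Not at hall
      have hone : ∀ u : G ⧸ K, u * u = 1 := fun u => by
        obtain ⟨x, rfl⟩ := QuotientGroup.mk'_surjective K u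
        obtain ⟨s, hs, e⟩ := hlift x
        rw [← e, ← map_mul, hπ]
        rcases hA2 _ (hsq s) with h | h
        · exact h
        · exact absurd (mem_inf.2 ⟨mul_mem (inv_mem hgS) (mul_mem hs hs), h⟩) (hall s hs)
      have habel : ∀ u v : G ⧸ K, u * v = v * u := fun u v => by
        have e1 : ∀ w : G ⧸ K, w⁻¹ = w := fun w => inv_eq_of_mul_eq_one_right (hone w)
        calc u * v = (u * v)⁻¹ := (e1 _).symm
          _ = v * u := by rw [mul_inv_rev, e1, e1]
      have : commutator G ≤ K := Subgroup.commutator_le.2 fun a _ b _ => by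
        rw [← hπ, map_commutatorElement, commutatorElement_eq_one_iff_mul_comm]
        exact habel _ _
      exact hgK (this (hA ▸ hgA))
    obtain ⟨s, hs, hsg⟩ := hconjT _ hxg
    rw [mul_inv_cancel_left] at hsg
    set y := s⁻¹ * x * s
    have hy : y * y = g := by
      calc y * y = s⁻¹ * (x * x) * s := by simp [y, mul_assoc]
        _ = g := by rw [← hsg]; group
    have hyC : y ∈ C := mem_centralizer_singleton_iff.2 (by rw [← hy]; group)
    -- the centraliser is a group of order at most eight
    have hsmall : K.index ≤ 8 := by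
      set Φ := (⁅T.subgroupOf (S : Subgroup G), (⊤ : Subgroup (S : Subgroup G))⁆)
      have hTn : (T.subgroupOf (S : Subgroup G)).Normal := by
        rw [show T.subgroupOf (S : Subgroup G) = K.subgroupOf (S : Subgroup G) from
          inf_subgroupOf_left _ _]
        infer_instance
      have hΦT : Φ ≤ T.subgroupOf (S : Subgroup G) := commutator_le_left _ _
      have hΦlt : Φ ≠ T.subgroupOf (S : Subgroup G) := by
        intro h
        have hser : ∀ i, T.subgroupOf (S : Subgroup G) ≤
            (⊤ : Subgroup (S : Subgroup G)).lowerCentralSeries i := by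
          intro i
          induction i with
          | zero => exact le_top
          | succ i ih => rw [← h]; exact commutator_mono ih le_rfl
        haveI := S.2.isNilpotent
        obtain ⟨c, hc⟩ := Subgroup.nilpotent_iff_lowerCentralSeries.1
          (inferInstance : Group.IsNilpotent (S : Subgroup G))
        have := (hser c).trans hc.le
        rw [le_bot_iff, subgroupOf_eq_bot, disjoint_iff, inf_assoc, inf_comm K, ← inf_assoc,
          inf_idem] at this
        exact hTne this
      -- a normal subgroup of index two in `T`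
      set Ts := T.subgroupOf (S : Subgroup G)
      obtain ⟨a, ha⟩ := (S.2.to_subgroup Ts).exists_card_eq
      obtain ⟨b, hb⟩ := (S.2.to_subgroup Φ).exists_card_eq
      have hba : b < a := by
        have : Nat.card Φ < Nat.card Ts := lt_of_le_of_ne (card_le_of_le hΦT) fun h =>
          hΦlt (eq_of_le_of_card_ge hΦT h.ge)
        rw [ha, hb] at this
        exact (Nat.pow_lt_pow_iff_right (by norm_num)).1 this
      obtain ⟨T₁, hT₁, hΦT₁⟩ := Sylow.exists_subgroup_card_pow_prime_le 2 (G := Ts) (n := b)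
        (m := a - 1) (by rw [ha]; exact pow_dvd_pow 2 (Nat.sub_le a 1)) (Φ.subgroupOf Ts)
        (by rw [Nat.card_congr (subgroupOfEquivOfLe hΦT).toEquiv, hb]) (by omega)
      set T₀ := T₁.map Ts.subtype
      have hΦT₀ : Φ ≤ T₀ := fun u hu => ⟨⟨u, hΦT hu⟩, hΦT₁ hu, rfl⟩
      have hT₀T : T₀ ≤ Ts := map_subtype_le _
      haveI hT₀n : T₀.Normal := ⟨fun u hu v => by
        have h1 : ⁅u, v⁆ ∈ T₀ := hΦT₀ (commutator_mem_commutator (hT₀T hu) (mem_top v))
        have h2 := mul_mem (inv_mem h1) hu
        rwa [commutatorElement_inv, commutatorElement_def, inv_mul_cancel_right] at h2⟩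
      have hT₀card : Nat.card T₀ * 2 = Nat.card Ts := by
        rw [card_map_of_injective Ts.subtype_injective, hT₁, ha, ← pow_succ,
          Nat.sub_add_cancel (by omega)]
      -- the centraliser of `g` modulo `T₀`
      set ρ := QuotientGroup.mk' T₀
      set gs : (S : Subgroup G) := ⟨g, hgS⟩
      let Ct : Subgroup (S : Subgroup G) :=
        (centralizer ({ρ gs} : Set ((S : Subgroup G) ⧸ T₀))).comap ρ
      have hTsmem : ∀ u : (S : Subgroup G), u ∈ Ts ↔ (u : G) ∈ K := fun u =>
        ⟨fun h => h.2, fun h => ⟨u.2, h⟩⟩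
      have hcentralT : ∀ t ∈ Ts, ∀ v, Commute (ρ t) (ρ v) := fun t ht v => by
        rw [← commutatorElement_eq_one_iff_commute, ← map_commutatorElement]
        exact (QuotientGroup.eq_one_iff _).2 (hΦT₀ (commutator_mem_commutator ht (mem_top v)))
      -- derived elements
      have hder : ∀ u v : (S : Subgroup G), ⁅u, v⁆ ∈ Ts ∨ gs⁻¹ * ⁅u, v⁆ ∈ Ts := fun u v => by
        rcases hA2 _ (hcomm u v) with h | h
        · exact Or.inl ((hTsmem _).2 h)
        · exact Or.inr ((hTsmem _).2 h)
      have hTscard : 0 < Nat.card T₀ := Nat.card_pos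
      have hCtK : ∀ c ∈ Ct, ∀ d ∈ Ct, (⁅c, d⁆ : (S : Subgroup G)) ∈ Ts := by
        have hh : ∀ C' : Subgroup ((S : Subgroup G) ⧸ T₀), C' = Ct.map ρ →
            ⁅⁅C', (⊤ : Subgroup ((S : Subgroup G) ⧸ T₀))⁆, C'⁆ = ⊥ := by
          rintro _ rfl
          rw [commutator_eq_bot_iff_le_centralizer, Subgroup.commutator_le]
          rintro _ ⟨c, hc, rfl⟩ v -
          obtain ⟨v, rfl⟩ := QuotientGroup.mk'_surjective T₀ v
          rw [mem_centralizer_iff]
          rintro _ ⟨d, hd, rfl⟩
          rw [← map_commutatorElement]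
          rcases hder c v with h | h
          · exact ((hcentralT _ h d).symm).eq
          · have hd' : Commute (ρ d) (ρ gs) := mem_centralizer_singleton_iff.1 hd
            have : Commute (ρ d) (ρ (gs * (gs⁻¹ * ⁅c, v⁆))) := by
              rw [map_mul]; exact hd'.mul_right ((hcentralT _ h d).symm)
            rw [mul_inv_cancel_left] at this
            exact this.eq
        set C' := Ct.map ρ
        have h1 : ⁅⁅C', (⊤ : Subgroup ((S : Subgroup G) ⧸ T₀))⁆, C'⁆ = ⊥ := hh _ rfl
        have h2 : ⁅⁅(⊤ : Subgroup ((S : Subgroup G) ⧸ T₀)), C'⁆, C'⁆ = ⊥ := by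
          rw [commutator_comm ⊤ C']; exact h1
        have h3 : ⁅⁅C', C'⁆, (⊤ : Subgroup ((S : Subgroup G) ⧸ T₀))⁆ = ⊥ :=
          commutator_commutator_eq_bot_of_rotate h1 h2
        intro c hc d hd
        rcases hder c d with h | h
        · exact h
        exfalso
        -- then `g` would be central modulo `T₀`
        have hcd : ∀ v, Commute (ρ ⁅c, d⁆) (ρ v) := fun v => by
          rw [← commutatorElement_eq_one_iff_commute, map_commutatorElement ρ c d, ← mem_bot, ← h3]
          exact commutator_mem_commutator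
            (commutator_mem_commutator (mem_map_of_mem _ hc) (mem_map_of_mem _ hd)) (mem_top _)
        have hgcent : ∀ v, Commute (ρ gs) (ρ v) := fun v => by
          have : Commute (ρ (⁅c, d⁆ * (gs⁻¹ * ⁅c, d⁆)⁻¹)) (ρ v) := by
            rw [map_mul, map_inv]; exact (hcd v).mul_left (hcentralT _ h v).inv_left
          rwa [show ⁅c, d⁆ * (gs⁻¹ * ⁅c, d⁆)⁻¹ = gs by group] at this
        have hle : Ts ≤ T₀ := fun t ht => by
          obtain ⟨s, hs, e⟩ := hconjT t ⟨(t : G) |> fun _ => t.2, (hTsmem t).1 ht⟩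
          have e' : (⟨s, hs⟩ : (S : Subgroup G)) * gs * (⟨s, hs⟩ : (S : Subgroup G))⁻¹ = gs * t :=
            Subtype.ext e
          have := congrArg ρ e'
          rw [map_mul, map_mul, map_mul, map_inv, (hgcent ⟨s, hs⟩).symm.eq, mul_inv_cancel_right,
            left_eq_mul] at this
          exact (QuotientGroup.eq_one_iff t).1 this
        have := card_le_of_le hle
        omega
      -- `Ct` has index at most two
      have hindex : Ct.index ≤ 2 := by
        have hgsT : ∀ u : (S : Subgroup G), ⁅gs⁻¹, u⁆ ∈ Ts := fun u => (hTsmem _).2 (by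
          have := (hsub u u.2).2
          rw [show g⁻¹ * ((u : G) * g * (u : G)⁻¹) = ⁅g⁻¹, (u : G)⁆ by
            rw [commutatorElement_def]; group] at this
          exact this)
        let φ : (S : Subgroup G) →* (S : Subgroup G) ⧸ T₀ := MonoidHom.mk'
          (fun u => ρ ⁅gs⁻¹, u⁆) fun u v => by
            rw [commutatorElement_mul_right_eq_mul_conj, map_mul, map_mul, map_mul, map_inv,
              mul_assoc _ (ρ u), (hcentralT _ (hgsT v) u).symm.eq, mul_assoc, mul_inv_cancel_right]
        have hker : φ.ker = Ct := by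
          ext u
          show ρ ⁅gs⁻¹, u⁆ = 1 ↔ ρ u ∈ centralizer ({ρ gs} : Set ((S : Subgroup G) ⧸ T₀))
          rw [map_commutatorElement, commutatorElement_eq_one_iff_commute, map_inv,
            mem_centralizer_singleton_iff]
          exact ⟨fun h => (by simpa using h.inv_left : Commute (ρ gs) (ρ u)).symm.eq,
            fun h => (show Commute (ρ u) (ρ gs) from h).symm.inv_left⟩
        rw [← hker, index_ker]
        refine (card_le_of_le (?_ : φ.range ≤ Ts.map ρ)).trans ?_
        · rintro _ ⟨u, rfl⟩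
          exact mem_map_of_mem _ (hgsT u)
        · have h1 := Nat.card_congr (QuotientGroup.quotientKerEquivRange
            (ρ.domRestrict Ts)).toEquiv
          rw [MonoidHom.domRestrict_range, MonoidHom.ker_domRestrict, QuotientGroup.ker_mk'] at h1
          rw [← h1]
          have h2 := Subgroup.card_eq_card_quotient_mul_card_subgroup (T₀.subgroupOf Ts)
          rw [Nat.card_congr (subgroupOfEquivOfLe hT₀T).toEquiv, ← hT₀card,
            mul_comm (Nat.card T₀)] at h2
          exact (Nat.eq_of_mul_eq_mul_right hTscard h2).ge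
      -- the image of `Ct` in `G / K`
      set C₂ := Ct.map (π.comp (S : Subgroup G).subtype)
      have hC₂ : ∀ u ∈ C₂, ∀ v ∈ C₂, Commute u v := by
        rintro _ ⟨c, hc, rfl⟩ _ ⟨d, hd, rfl⟩
        rw [← commutatorElement_eq_one_iff_commute, ← map_commutatorElement]
        exact (hπ _).2 ((hTsmem _).1 (hCtK c hc d hd))
      have hsurj : Function.Surjective (π.comp (S : Subgroup G).subtype) := fun u => by
        obtain ⟨x, rfl⟩ := QuotientGroup.mk'_surjective K u
        obtain ⟨s, hs, e⟩ := hlift x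
        exact ⟨⟨s, hs⟩, e⟩
      have hC₂i : C₂.index ≤ 2 :=
        (Nat.le_of_dvd (Nat.pos_of_ne_zero FiniteIndex.index_ne_zero)
          (index_map_dvd Ct hsurj)).trans hindex
      -- the centre of `G / K` has order two
      have hcenter : ∀ u : G ⧸ K, (∀ v, Commute u v) → u = 1 ∨ u = π g := fun u hu => by
        obtain ⟨x, rfl⟩ := QuotientGroup.mk'_surjective K u
        by_cases hxA : x ∈ A
        · rcases hA2 _ hxA with h | h
          · exact Or.inl ((hπ _).2 h)
          · refine Or.inr ?_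
            rw [eq_comm, ← inv_mul_eq_one, ← map_inv, ← map_mul]; exact (hπ _).2 h
        · obtain ⟨y, hy⟩ := hcent x hxA
          refine absurd ((hπ _).1 ?_) hy
          rw [map_commutatorElement, commutatorElement_eq_one_iff_commute]
          exact hu _
      by_cases htop : C₂ = ⊤
      · exfalso
        refine hgK ((commutator_le.2 fun a _ b _ => ?_ : commutator G ≤ K) hgG)
        rw [← hπ, map_commutatorElement, commutatorElement_eq_one_iff_commute]
        exact hC₂ _ (htop ▸ mem_top _) _ (htop ▸ mem_top _)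
      obtain ⟨u, -, hu⟩ := SetLike.exists_of_lt (lt_top_iff_ne_top.2 htop)
      have hidx2 : C₂.index = 2 := by
        have h0 : C₂.index ≠ 0 := FiniteIndex.index_ne_zero
        have h1 : C₂.index ≠ 1 := fun h => htop (index_eq_one.1 h)
        omega
      let χ : C₂ →* G ⧸ K := MonoidHom.mk' (fun c => ⁅u, (c : G ⧸ K)⁆) fun c d => by
        obtain ⟨x, hx⟩ := QuotientGroup.mk'_surjective K u
        obtain ⟨z, hz⟩ := QuotientGroup.mk'_surjective K (c : G ⧸ K)
        obtain ⟨w, hw⟩ := QuotientGroup.mk'_surjective K (d : G ⧸ K)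
        rw [Subgroup.coe_mul, commutatorElement_mul_right_eq_mul_conj, ← hx, ← hw, ← hz,
          mul_assoc _ (π z), (hvalc x w z).symm.eq, mul_assoc, mul_inv_cancel_right]
      have hχ : Nat.card χ.range ≤ 2 := by
        have : (χ.range : Set (G ⧸ K)) ⊆ {1, π g} := by
          rintro _ ⟨c, rfl⟩
          obtain ⟨x, hx⟩ := QuotientGroup.mk'_surjective K u
          obtain ⟨z, hz⟩ := QuotientGroup.mk'_surjective K (c : G ⧸ K)
          show ⁅u, (c : G ⧸ K)⁆ ∈ ({1, π g} : Set (G ⧸ K))
          rw [← hx, ← hz, ← map_commutatorElement]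
          rcases hval x z with h | h <;> rw [h] <;> simp
        rw [← SetLike.coe_sort_coe, Nat.card_coe_set_eq]
        exact (Set.ncard_le_ncard this).trans ((Set.ncard_insert_le _ _).trans (by simp))
      have hker : Nat.card χ.ker ≤ 2 := by
        have : ∀ c : χ.ker, ((c : C₂) : G ⧸ K) ∈ ({1, π g} : Set (G ⧸ K)) := by
          rintro ⟨c, hc⟩
          have hcu : Commute u (c : G ⧸ K) := commutatorElement_eq_one_iff_commute.1 hc
          refine (hcenter _ fun v => ?_).elim (fun h => Or.inl h) fun h => Or.inr h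
          by_cases hv : v ∈ C₂
          · exact hC₂ _ c.2 _ hv
          · have hv' : u⁻¹ * v ∈ C₂ := by
              rw [mul_mem_iff_of_index_two hidx2, inv_mem_iff]
              exact iff_of_false hu hv
            have := hcu.symm.mul_right (hC₂ _ c.2 _ hv')
            rwa [mul_inv_cancel_left] at this
        refine (Nat.card_le_card_of_injective (fun c : χ.ker => (⟨_, this c⟩ :
          ({1, π g} : Set (G ⧸ K)))) fun a b h => Subtype.ext (Subtype.ext (congrArg Subtype.val h :))).trans ?_
        rw [Nat.card_coe_set_eq]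
        exact (Set.ncard_insert_le _ _).trans (by simp)
      have h4 : Nat.card C₂ ≤ 4 := by
        have h := Subgroup.card_mul_index χ.ker
        rw [index_ker] at h
        calc Nat.card C₂ = Nat.card χ.ker * Nat.card χ.range := h.symm
          _ ≤ 2 * 2 := Nat.mul_le_mul hker hχ
      have h := Subgroup.card_mul_index C₂
      rw [hidx2] at h
      show Nat.card (G ⧸ K) ≤ 8
      omega
    -- the order of `y`
    have hy8 : orderOf y ≤ 8 := by
      refine le_trans (Nat.le_of_dvd Nat.card_pos ?_) (hcard.trans_le hsmall)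
      have := orderOf_dvd_natCard (⟨y, hyC⟩ : C)
      rwa [orderOf_mk] at this
    obtain ⟨i, hi⟩ := S.2 ⟨y, hCS hyC⟩
    obtain ⟨j, -, hj⟩ := (Nat.dvd_prime_pow Nat.prime_two).1
      (orderOf_dvd_of_pow_eq_one (show y ^ 2 ^ i = 1 from congrArg Subtype.val hi))
    apply hg4
    rw [← hy, ← sq, ← pow_mul, ← orderOf_dvd_iff_pow_eq_one, hj, show 2 * 4 = 2 ^ 3 from rfl]
    rw [hj, show (8 : ℕ) = 2 ^ 3 from rfl] at hy8
    exact pow_dvd_pow 2 ((Nat.pow_le_pow_iff_right (by norm_num)).1 hy8)
  -- conjugation by `g` on `M`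
  haveI := hMn
  let σ : MulAut M := MulAut.conjNormal g
  have hσ : σ ^ 4 = 1 := by rw [← map_pow, hg4, map_one]
  have hfpf : ∀ m : M, σ m = m → m = 1 := fun m hm => by
    have h1 : (m : G) ∈ C := by
      have h := congrArg Subtype.val hm
      rw [MulAut.conjNormal_apply, mul_inv_eq_iff_eq_mul] at h
      exact mem_centralizer_singleton_iff.2 h.symm
    apply Subtype.ext
    rw [coe_one, ← orderOf_eq_one_iff]
    have hd1 := orderOf_dvd_natCard (⟨(m : G), h1⟩ : C)
    rw [orderOf_mk, hcard, he] at hd1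
    have hd2 : orderOf (m : G) ∣ Nat.card M := orderOf_coe m ▸ orderOf_dvd_natCard m
    exact Nat.eq_one_of_dvd_coprimes (hMcop.pow_right e) hd2 hd1
  haveI hMsol : Group.IsSolvable M := isSolvable_of_fpf_four σ hσ hfpf
  haveI : Group.IsSolvable (G ⧸ M) := by
    have h2 : IsPGroup 2 (G ⧸ M) := by
      refine IsPGroup.of_card (n := e + k) ?_
      have h1 := Subgroup.card_mul_index M
      rw [← K.card_mul_index, hk, he, mul_assoc, ← pow_add] at h1
      rw [← index_eq_card, Nat.eq_of_mul_eq_mul_left Nat.card_pos h1, add_comm]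
    haveI := h2.isNilpotent
    infer_instance
  exact (Group.isSolvable_iff_subgroup_quotient M).2 ⟨hMsol, inferInstance⟩

end Cfsg.Agent.OneNonlinear
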