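import Mathlib.FieldTheory.Finite.Basic
import Mathlib.LinearAlgebra.LinearIndependent.Lemmas
import Mathlib.LinearAlgebra.Dual.Lemmas
import Mathlib.LinearAlgebra.FreeModule.Finite.Matrix
import Mathlib.RingTheory.IntegralDomain
import Mathlib.Algebra.Algebra.ZMod
import Mathlib.Algebra.Module.ZMod

/-!
# Multiadditive maps on a finite field as combinations of Frobenius powers

With `|F| = p ^ a` every additive `f : F → F` is uniquely `∑ i < a, c i * x ^ p ^ i`; the same for
two and three variables.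
-/

namespace Cfsg.Agent.OneNonlinear

set_option linter.style.haveILetI false
set_option linter.unusedSectionVars false

variable {F : Type*} [Field F] [Finite F] {p a : ℕ}

theorem exists_gen : ∃ ω : F, ω ≠ 0 ∧ orderOf ω = Nat.card F - 1 ∧
    ∀ x : F, x ≠ 0 → ∃ k : ℕ, x = ω ^ k := by
  classical
  haveI := Fintype.ofFinite F
  obtain ⟨g, hg⟩ := IsCyclic.exists_generator (α := Fˣ)
  refine ⟨g, g.ne_zero, ?_, fun x hx => ?_⟩
  · rw [orderOf_units, orderOf_eq_card_of_forall_mem_zpowers hg, Nat.card_units]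
  · obtain ⟨k, hk⟩ := mem_powers_iff_mem_zpowers.2 (hg (Units.mk0 x hx))
    exact ⟨k, by rw [← Units.val_pow_eq_pow_val]; exact (congrArg Units.val hk).symm⟩

variable [Fact p.Prime] [CharP F p]

theorem pow_p_pow_injective (hcard : Nat.card F = p ^ a) {i j : Fin a}
    (h : ∀ x : F, x ^ p ^ (i : ℕ) = x ^ p ^ (j : ℕ)) : i = j := by
  classical
  have hp := (Fact.out : p.Prime)
  wlog hij : (i : ℕ) ≤ j generalizing i j
  · exact (this (fun x => (h x).symm) (by omega)).symm
  by_contra hne
  have hlt : (i : ℕ) < j := lt_of_le_of_ne hij fun e => hne (Fin.ext e)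
  obtain ⟨ω, hω, hord, -⟩ := exists_gen (F := F)
  have h1 : ω ^ (p ^ (j : ℕ) - p ^ (i : ℕ)) = 1 := by
    have e := h ω
    rw [show p ^ (j : ℕ) = p ^ (i : ℕ) + (p ^ (j : ℕ) - p ^ (i : ℕ)) from
      (Nat.add_sub_cancel' (Nat.pow_le_pow_right hp.pos hij)).symm, pow_add] at e
    exact (mul_eq_left₀ (pow_ne_zero _ hω)).1 e.symm
  have hd := orderOf_dvd_of_pow_eq_one h1
  rw [hord, hcard] at hd
  have hpos : 0 < p ^ (j : ℕ) - p ^ (i : ℕ) :=
    Nat.sub_pos_of_lt (Nat.pow_lt_pow_right hp.one_lt hlt)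
  have hle := Nat.le_of_dvd hpos hd
  have h2 : p ^ (j : ℕ) * p ≤ p ^ a := by
    rw [← pow_succ]; exact Nat.pow_le_pow_right hp.pos j.2
  have h3 : 1 ≤ p ^ (i : ℕ) := Nat.one_le_pow _ _ hp.pos
  have h4 : p ^ (j : ℕ) * 2 ≤ p ^ (j : ℕ) * p := Nat.mul_le_mul_left _ hp.two_le
  have h5 : 2 ≤ p ^ (j : ℕ) := hp.two_le.trans (Nat.le_self_pow (by omega) p)
  omega

/-- Uniqueness of the coefficients. -/
theorem eq_zero_of_forall_sum (hcard : Nat.card F = p ^ a) {c : Fin a → F}
    (h : ∀ x : F, ∑ i, c i * x ^ p ^ (i : ℕ) = 0) : c = 0 := by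
  have hinj : Function.Injective
      (fun i : Fin a => (powMonoidHom (p ^ (i : ℕ)) : F →* F)) := fun i j hij =>
    pow_p_pow_injective hcard fun x => by simpa using DFunLike.congr_fun hij x
  have hli := (linearIndependent_monoidHom F F).comp _ hinj
  rw [Fintype.linearIndependent_iff] at hli
  refine funext fun i => hli c (funext fun x => ?_) i
  simpa [Finset.sum_apply] using h x

/-- Existence of the coefficients. -/
theorem exists_expansion (hcard : Nat.card F = p ^ a) (f : F →+ F) :
    ∃ c : Fin a → F, ∀ x, f x = ∑ i, c i * x ^ p ^ (i : ℕ) := by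
  classical
  have hp := (Fact.out : p.Prime)
  letI : Algebra (ZMod p) F := ZMod.algebra F p
  let σ : ℕ → (F →+ F) := fun i =>
    AddMonoidHom.mk' (fun x => x ^ p ^ i) fun x y => add_pow_char_pow x y p i
  let Φ : (Fin a → F) → (F →ₗ[ZMod p] F) := fun c =>
    AddMonoidHom.toZModLinearMap p (∑ i, (AddMonoidHom.mulLeft (c i)).comp (σ i))
  have hΦ : ∀ c x, Φ c x = ∑ i, c i * x ^ p ^ (i : ℕ) := fun c x => by
    simp [Φ, σ]
  have hinj : Function.Injective Φ := fun c d h => by
    have := eq_zero_of_forall_sum hcard (c := c - d) fun x => by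
      have e := LinearMap.congr_fun h x
      rw [hΦ, hΦ] at e
      simp [sub_mul, Finset.sum_sub_distrib, e]
    exact sub_eq_zero.1 this
  have hfr : Module.finrank (ZMod p) F = a := by
    have h := Module.natCard_eq_pow_finrank (K := ZMod p) (V := F)
    rw [Nat.card_zmod, hcard] at h
    exact (Nat.pow_right_injective hp.two_le h).symm
  haveI : Finite (F →ₗ[ZMod p] F) := Finite.of_injective _ DFunLike.coe_injective
  have hc : Nat.card (Fin a → F) = Nat.card (F →ₗ[ZMod p] F) := by
    rw [Nat.card_fun, Module.natCard_eq_pow_finrank (K := ZMod p) (V := F →ₗ[ZMod p] F),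
      Module.finrank_linearMap, hfr, Nat.card_zmod, hcard, Nat.card_fin, ← pow_mul]
  obtain ⟨c, hc'⟩ := ((Nat.bijective_iff_injective_and_card Φ).2 ⟨hinj, hc⟩).2
    (AddMonoidHom.toZModLinearMap p f)
  exact ⟨c, fun x => by rw [← hΦ, hc']; rfl⟩

theorem eq_zero_of_forall_sum₂ (hcard : Nat.card F = p ^ a) {c : Fin a → Fin a → F}
    (h : ∀ x y : F, ∑ i, ∑ j, c i j * x ^ p ^ (i : ℕ) * y ^ p ^ (j : ℕ) = 0) : c = 0 := by
  refine funext fun i => eq_zero_of_forall_sum hcard fun y => ?_
  have := eq_zero_of_forall_sum hcard (c := fun i => ∑ j, c i j * y ^ p ^ (j : ℕ)) fun x => by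
    refine Eq.trans (Finset.sum_congr rfl fun i _ => ?_) (h x y)
    rw [Finset.sum_mul]
    exact Finset.sum_congr rfl fun j _ => mul_right_comm _ _ _
  exact congrFun this i

theorem eq_zero_of_forall_sum₃ (hcard : Nat.card F = p ^ a) {c : Fin a → Fin a → Fin a → F}
    (h : ∀ x y z : F, ∑ i, ∑ j, ∑ k,
      c i j k * x ^ p ^ (i : ℕ) * y ^ p ^ (j : ℕ) * z ^ p ^ (k : ℕ) = 0) : c = 0 := by
  refine funext fun i => funext fun j => eq_zero_of_forall_sum hcard fun z => ?_
  have := eq_zero_of_forall_sum₂ hcard (c := fun i j => ∑ k, c i j k * z ^ p ^ (k : ℕ)) fun x y => by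
    refine Eq.trans (Finset.sum_congr rfl fun i _ => Finset.sum_congr rfl fun j _ => ?_) (h x y z)
    rw [Finset.sum_mul, Finset.sum_mul]
    exact Finset.sum_congr rfl fun k _ => by ring
  exact congrFun (congrFun this i) j

theorem exists_expansion₂ (hcard : Nat.card F = p ^ a) (f : F →+ F →+ F) :
    ∃ c : Fin a → Fin a → F,
      ∀ x y, f x y = ∑ i, ∑ j, c i j * x ^ p ^ (i : ℕ) * y ^ p ^ (j : ℕ) := by
  classical
  choose d hd using fun y => exists_expansion hcard (f.flip y)
  have hadd : ∀ y y' i, d (y + y') i = d y i + d y' i := fun y y' i => by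
    have := eq_zero_of_forall_sum hcard (c := d (y + y') - (d y + d y')) fun x => by
      simp only [Pi.sub_apply, Pi.add_apply, sub_mul, add_mul, Finset.sum_sub_distrib,
        Finset.sum_add_distrib, ← hd]
      simp
    exact congrFun (sub_eq_zero.1 this) i
  choose c hc using fun i : Fin a =>
    exists_expansion hcard (AddMonoidHom.mk' (fun y => d y i) fun y y' => hadd y y' i)
  refine ⟨c, fun x y => ?_⟩
  rw [← AddMonoidHom.flip_apply f, hd]
  refine Finset.sum_congr rfl fun i _ => ?_
  rw [show d y i = _ from hc i y, Finset.sum_mul]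
  exact Finset.sum_congr rfl fun j _ => mul_right_comm _ _ _

theorem exists_expansion₃ (hcard : Nat.card F = p ^ a) (f : F →+ F →+ F →+ F) :
    ∃ c : Fin a → Fin a → Fin a → F, ∀ x y z, f x y z =
      ∑ i, ∑ j, ∑ k, c i j k * x ^ p ^ (i : ℕ) * y ^ p ^ (j : ℕ) * z ^ p ^ (k : ℕ) := by
  classical
  let g : F → (F →+ F →+ F) := fun z =>
    AddMonoidHom.mk' (fun x => AddMonoidHom.mk' (fun y => f x y z) fun y y' => by simp)
      fun x x' => AddMonoidHom.ext fun y => by simp
  choose d hd using fun z => exists_expansion₂ hcard (g z)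
  have hadd : ∀ z z' i j, d (z + z') i j = d z i j + d z' i j := fun z z' i j => by
    have := eq_zero_of_forall_sum₂ hcard (c := d (z + z') - (d z + d z')) fun x y => by
      simp only [Pi.sub_apply, Pi.add_apply, sub_mul, add_mul, Finset.sum_sub_distrib,
        Finset.sum_add_distrib, ← hd]
      simp [g]
    exact congrFun (congrFun (sub_eq_zero.1 this) i) j
  choose c hc using fun i j : Fin a =>
    exists_expansion hcard (AddMonoidHom.mk' (fun z => d z i j) fun z z' => hadd z z' i j)
  refine ⟨c, fun x y z => ?_⟩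
  have e : f x y z = g z x y := rfl
  rw [e, hd]
  refine Finset.sum_congr rfl fun i _ => Finset.sum_congr rfl fun j _ => ?_
  rw [show d z i j = _ from hc i j z, Finset.sum_mul, Finset.sum_mul]
  exact Finset.sum_congr rfl fun k _ => by ring

/-- A nonzero additive image which is stable under multiplication by `η` and smaller than `F`
puts `η` into a proper subfield. -/
theorem exists_frobenius_fixed (hcard : Nat.card F = p ^ a) (η : F) (J : AddSubgroup F)
    (hJ : J ≠ ⊥) (hη : ∀ x ∈ J, η * x ∈ J) (hlt : Nat.card J < p ^ a) :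
    ∃ g, 0 < g ∧ 2 * g ≤ a ∧ η ^ p ^ g = η := by
  classical
  have hp := (Fact.out : p.Prime)
  let K : Subring F :=
    { carrier := {r | ∀ x ∈ J, r * x ∈ J}
      mul_mem' := fun {r s} hr hs x hx => by rw [mul_assoc]; exact hr _ (hs x hx)
      one_mem' := fun x hx => by simpa using hx
      add_mem' := fun {r s} hr hs x hx => by rw [add_mul]; exact J.add_mem (hr x hx) (hs x hx)
      zero_mem' := fun x _ => by simp
      neg_mem' := fun {r} hr x hx => by rw [neg_mul]; exact J.neg_mem (hr x hx) }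
  haveI : Fintype K := Fintype.ofFinite K
  letI : Field K := Fintype.fieldOfDomain K
  haveI : CharP K p := RingHom.charP K.subtype Subtype.coe_injective p
  obtain ⟨g, -, hg⟩ := FiniteField.card K p
  obtain ⟨⟨x, hx⟩, hx0⟩ := AddSubgroup.ne_bot_iff_exists_ne_zero.1 hJ
  have hx0' : x ≠ 0 := fun e => hx0 (Subtype.ext e)
  have hKlt : Nat.card K < p ^ a :=
    (Nat.card_le_card_of_injective (fun r : K => (⟨r * x, r.2 x hx⟩ : J)) fun r s h =>
      Subtype.ext (mul_right_cancel₀ hx0' (congrArg Subtype.val h))).trans_lt hlt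
  have hgK : Nat.card K = p ^ (g : ℕ) := by rw [Nat.card_eq_fintype_card, hg]
  have hF := Module.natCard_eq_pow_finrank (K := K) (V := F)
  rw [hcard, hgK, ← pow_mul] at hF
  have hd := Nat.pow_right_injective hp.two_le hF
  rw [hgK] at hKlt
  have hga : (g : ℕ) < a := (Nat.pow_lt_pow_iff_right hp.one_lt).1 hKlt
  refine ⟨g, g.pos, ?_, ?_⟩
  · have : 2 ≤ Module.finrank K F := by
      by_contra h
      interval_cases hh : Module.finrank K F <;> omega
    calc 2 * (g : ℕ) = g * 2 := mul_comm _ _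
      _ ≤ g * Module.finrank K F := Nat.mul_le_mul_left _ this
      _ = a := hd.symm
  · have h := FiniteField.pow_card (⟨η, hη⟩ : K)
    rw [hg] at h
    simpa using congrArg Subtype.val h

end Cfsg.Agent.OneNonlinear
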